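import Mathlib

/-!
# Formally étale charts of set-valued functors on algebras: transition maps (helper2)

`AFun A` is a set-valued functor on commutative `A`-algebras.  For a point `c ∈ F(C)` which is
"formally étale" (`FE`), we define the transition maps `tr` between lifts through the chart with
different base points, and prove that they are affine-linear (`tr_affine`), by evaluating the
functor on auxiliary rings of "parallelograms" (`Rb`).
-/

set_option autoImplicit false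
set_option synthInstance.maxHeartbeats 400000
set_option maxHeartbeats 1000000
set_option linter.style.haveILetI false
set_option linter.unusedSectionVars false
set_option linter.unusedVariables false
set_option linter.unusedSimpArgs false
set_option linter.unnecessarySimpa false

universe u w

namespace Groth.Agent.Helper2.FDesc

/-- A set-valued functor on commutative `A`-algebras (in the universe of `A`). -/
structure AFun (A : Type u) [CommRing A] where
  obj : (B : Type u) → [CommRing B] → [Algebra A B] → Type w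
  map : {B B' : Type u} → [CommRing B] → [Algebra A B] → [CommRing B'] → [Algebra A B'] →
    (B →ₐ[A] B') → obj B → obj B'
  map_id : ∀ {B : Type u} [CommRing B] [Algebra A B] (x : obj B), map (AlgHom.id A B) x = x
  map_comp : ∀ {B B' B'' : Type u} [CommRing B] [Algebra A B] [CommRing B'] [Algebra A B']
    [CommRing B''] [Algebra A B''] (g : B →ₐ[A] B') (g' : B' →ₐ[A] B'') (x : obj B),
    map (g'.comp g) x = map g' (map g x)

variable {A : Type u} [CommRing A]

theorem AFun.map_injective_of_equiv (F : AFun.{u, w} A) {B B' : Type u} [CommRing B] [Algebra A B]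
    [CommRing B'] [Algebra A B'] (e : B ≃ₐ[A] B') :
    Function.Injective (F.map (e : B →ₐ[A] B')) := by
  intro x y h
  have h' := congrArg (F.map (e.symm : B' →ₐ[A] B)) h
  rw [← F.map_comp, ← F.map_comp] at h'
  have he : (e.symm : B' →ₐ[A] B).comp (e : B →ₐ[A] B') = AlgHom.id A B := by
    ext x
    simp
  rw [he, F.map_id, F.map_id] at h'
  exact h'

/-- `c ∈ F(C)` is a formally étale chart. -/
def FE (F : AFun.{u, w} A) {C : Type u} [CommRing C] [Algebra A C] (c : F.obj C) : Prop :=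
  ∀ (B' : Type u) [CommRing B'] [Algebra A B'] (N : Ideal B'), (∀ x ∈ N, ∀ y ∈ N, x * y = 0) →
    ∀ (ub : C →ₐ[A] B' ⧸ N) (l : F.obj B'),
      F.map (Ideal.Quotient.mkₐ A N) l = F.map ub c →
      ∃! u : C →ₐ[A] B', (Ideal.Quotient.mkₐ A N).comp u = ub ∧ F.map u c = l

/-- A surjection of `A`-algebras with square-zero kernel. -/
structure SqZ {B' Bb : Type u} [CommRing B'] [Algebra A B'] [CommRing Bb] [Algebra A Bb]
    (π : B' →ₐ[A] Bb) : Prop where
  surj : Function.Surjective π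
  sq : ∀ x y, π x = 0 → π y = 0 → x * y = 0

variable {F : AFun.{u, w} A} {C : Type u} [CommRing C] [Algebra A C] {c : F.obj C}
variable {B' Bb : Type u} [CommRing B'] [Algebra A B'] [CommRing Bb] [Algebra A Bb]
  {π : B' →ₐ[A] Bb}

theorem SqZ.ker_sq (hπ : SqZ π) : ∀ x ∈ RingHom.ker π, ∀ y ∈ RingHom.ker π, x * y = 0 :=
  fun x hx y hy => hπ.sq x y ((RingHom.mem_ker).1 hx) ((RingHom.mem_ker).1 hy)

theorem FE.star (hFE : FE F c) (hπ : SqZ π) (ub : C →ₐ[A] Bb) (l : F.obj B')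
    (hl : F.map π l = F.map ub c) :
    ∃! u : C →ₐ[A] B', π.comp u = ub ∧ F.map u c = l := by
  obtain ⟨e, he⟩ : ∃ e : (B' ⧸ RingHom.ker π) ≃ₐ[A] Bb,
      (e : (B' ⧸ RingHom.ker π) →ₐ[A] Bb).comp (Ideal.Quotient.mkₐ A (RingHom.ker π)) = π :=
    ⟨Ideal.quotientKerAlgEquivOfSurjective hπ.surj, by ext x; rfl⟩
  have hes : ∀ t : C →ₐ[A] Bb,
      (e : (B' ⧸ RingHom.ker π) →ₐ[A] Bb).comp ((e.symm : Bb →ₐ[A] B' ⧸ RingHom.ker π).comp t)
        = t := by
    intro t
    ext x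
    simp
  have key : F.map (Ideal.Quotient.mkₐ A (RingHom.ker π)) l =
      F.map ((e.symm : Bb →ₐ[A] B' ⧸ RingHom.ker π).comp ub) c := by
    apply F.map_injective_of_equiv e
    rw [← F.map_comp, ← F.map_comp, he, hl, hes]
  obtain ⟨u, ⟨hu1, hu2⟩, huniq⟩ := hFE B' (RingHom.ker π) hπ.ker_sq _ l key
  refine ⟨u, ⟨?_, hu2⟩, ?_⟩
  · rw [← he, AlgHom.comp_assoc, hu1, hes]
  · rintro u' ⟨h1, h2⟩
    apply huniq
    refine ⟨?_, h2⟩
    have hey : ∀ y : B', e (Ideal.Quotient.mkₐ A (RingHom.ker π) y) = π y := fun y =>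
      congrArg (fun t : B' →ₐ[A] Bb => t y) he
    ext x
    show Ideal.Quotient.mkₐ A (RingHom.ker π) (u' x) = e.symm (ub x)
    rw [← h1]
    show _ = e.symm (π (u' x))
    rw [← hey, AlgEquiv.symm_apply_apply]

/-! ## Transition maps -/

theorem tr_exists (hFE : FE F c) (hπ : SqZ π) (ub : C →ₐ[A] Bb) (v : C →ₐ[A] B')
    (h : F.map (π.comp v) c = F.map ub c) :
    ∃! t : C →ₐ[A] B', π.comp t = ub ∧ F.map t c = F.map v c :=
  hFE.star hπ ub (F.map v c) (by rw [← F.map_comp]; exact h)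

/-- The unique lift through the chart with base point `ub` having the same image in `F` as `v`. -/
noncomputable def tr (hFE : FE F c) (hπ : SqZ π) (ub : C →ₐ[A] Bb) (v : C →ₐ[A] B')
    (h : F.map (π.comp v) c = F.map ub c) : C →ₐ[A] B' :=
  (tr_exists hFE hπ ub v h).exists.choose

theorem tr_comp (hFE : FE F c) (hπ : SqZ π) (ub : C →ₐ[A] Bb) (v : C →ₐ[A] B')
    (h : F.map (π.comp v) c = F.map ub c) : π.comp (tr hFE hπ ub v h) = ub :=
  (tr_exists hFE hπ ub v h).exists.choose_spec.1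

theorem tr_map (hFE : FE F c) (hπ : SqZ π) (ub : C →ₐ[A] Bb) (v : C →ₐ[A] B')
    (h : F.map (π.comp v) c = F.map ub c) : F.map (tr hFE hπ ub v h) c = F.map v c :=
  (tr_exists hFE hπ ub v h).exists.choose_spec.2

theorem tr_unique (hFE : FE F c) (hπ : SqZ π) (ub : C →ₐ[A] Bb) (v : C →ₐ[A] B')
    (h : F.map (π.comp v) c = F.map ub c) (t : C →ₐ[A] B') (h1 : π.comp t = ub)
    (h2 : F.map t c = F.map v c) : t = tr hFE hπ ub v h :=
  (tr_exists hFE hπ ub v h).unique ⟨h1, h2⟩ ⟨tr_comp hFE hπ ub v h, tr_map hFE hπ ub v h⟩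

theorem tr_apply_pi (hFE : FE F c) (hπ : SqZ π) (ub : C →ₐ[A] Bb) (v : C →ₐ[A] B')
    (h : F.map (π.comp v) c = F.map ub c) (x : C) : π (tr hFE hπ ub v h x) = ub x :=
  congrArg (fun t : C →ₐ[A] Bb => t x) (tr_comp hFE hπ ub v h)

theorem tr_congr (hFE : FE F c) (hπ : SqZ π) (ub : C →ₐ[A] Bb) (v v' : C →ₐ[A] B')
    (hv : v = v') (h : F.map (π.comp v) c = F.map ub c)
    (h' : F.map (π.comp v') c = F.map ub c) :
    tr hFE hπ ub v h = tr hFE hπ ub v' h' := by
  subst hv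
  rfl

theorem tr_natural (hFE : FE F c) (hπ : SqZ π) {B'' Bb'' : Type u} [CommRing B'']
    [Algebra A B''] [CommRing Bb''] [Algebra A Bb''] {π'' : B'' →ₐ[A] Bb''} (hπ'' : SqZ π'')
    (g : B' →ₐ[A] B'') (gb : Bb →ₐ[A] Bb'') (hg : gb.comp π = π''.comp g)
    (ub : C →ₐ[A] Bb) (v : C →ₐ[A] B') (h : F.map (π.comp v) c = F.map ub c)
    (ub'' : C →ₐ[A] Bb'') (hub : ub'' = gb.comp ub)
    (h'' : F.map (π''.comp (g.comp v)) c = F.map ub'' c) :
    g.comp (tr hFE hπ ub v h) = tr hFE hπ'' ub'' (g.comp v) h'' := by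
  subst hub
  apply tr_unique
  · rw [← AlgHom.comp_assoc, ← hg, AlgHom.comp_assoc, tr_comp]
  · rw [F.map_comp, tr_map, ← F.map_comp]

theorem tr_trans (hFE : FE F c) (hπ : SqZ π) (ub ub' : C →ₐ[A] Bb) (v : C →ₐ[A] B')
    (h' : F.map (π.comp v) c = F.map ub' c)
    (h1 : F.map (π.comp (tr hFE hπ ub' v h')) c = F.map ub c)
    (h : F.map (π.comp v) c = F.map ub c) :
    tr hFE hπ ub (tr hFE hπ ub' v h') h1 = tr hFE hπ ub v h := by
  apply tr_unique
  · exact tr_comp hFE hπ ub _ h1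
  · rw [tr_map, tr_map]

/-! ## The ring of `b`-parallelograms -/

/-- Quadruples `(p₁, p₂, p₃, p₄)` congruent modulo `N` with `p₄ - p₃ = b (p₂ - p₁)`. -/
def Rb (N : Ideal B') (hN : ∀ x ∈ N, ∀ y ∈ N, x * y = 0) (b : B') :
    Subalgebra A (B' × B' × B' × B') where
  carrier := {p | p.2.1 - p.1 ∈ N ∧ p.2.2.1 - p.1 ∈ N ∧ p.2.2.2 - p.1 ∈ N ∧
    p.2.2.2 - p.2.2.1 = b * (p.2.1 - p.1)}
  mul_mem' := by
    rintro p q ⟨hp2, hp3, hp4, hpb⟩ ⟨hq2, hq3, hq4, hqb⟩
    have z2 := hN _ hp2 _ hq2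
    have z3 := hN _ hp3 _ hq3
    have z4 := hN _ hp4 _ hq4
    refine ⟨?_, ?_, ?_, ?_⟩
    · show p.2.1 * q.2.1 - p.1 * q.1 ∈ N
      have e : p.2.1 * q.2.1 - p.1 * q.1 =
          p.1 * (q.2.1 - q.1) + q.1 * (p.2.1 - p.1) + (p.2.1 - p.1) * (q.2.1 - q.1) := by ring
      rw [e, z2, add_zero]
      exact N.add_mem (N.mul_mem_left _ hq2) (N.mul_mem_left _ hp2)
    · show p.2.2.1 * q.2.2.1 - p.1 * q.1 ∈ N
      have e : p.2.2.1 * q.2.2.1 - p.1 * q.1 =
          p.1 * (q.2.2.1 - q.1) + q.1 * (p.2.2.1 - p.1) + (p.2.2.1 - p.1) * (q.2.2.1 - q.1) := by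
        ring
      rw [e, z3, add_zero]
      exact N.add_mem (N.mul_mem_left _ hq3) (N.mul_mem_left _ hp3)
    · show p.2.2.2 * q.2.2.2 - p.1 * q.1 ∈ N
      have e : p.2.2.2 * q.2.2.2 - p.1 * q.1 =
          p.1 * (q.2.2.2 - q.1) + q.1 * (p.2.2.2 - p.1) + (p.2.2.2 - p.1) * (q.2.2.2 - q.1) := by
        ring
      rw [e, z4, add_zero]
      exact N.add_mem (N.mul_mem_left _ hq4) (N.mul_mem_left _ hp4)
    · show p.2.2.2 * q.2.2.2 - p.2.2.1 * q.2.2.1 = b * (p.2.1 * q.2.1 - p.1 * q.1)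
      linear_combination p.1 * hqb + q.1 * hpb + z4 - z3 - b * z2
  add_mem' := by
    rintro p q ⟨hp2, hp3, hp4, hpb⟩ ⟨hq2, hq3, hq4, hqb⟩
    refine ⟨?_, ?_, ?_, ?_⟩
    · show p.2.1 + q.2.1 - (p.1 + q.1) ∈ N
      have e : p.2.1 + q.2.1 - (p.1 + q.1) = (p.2.1 - p.1) + (q.2.1 - q.1) := by ring
      rw [e]
      exact N.add_mem hp2 hq2
    · show p.2.2.1 + q.2.2.1 - (p.1 + q.1) ∈ N
      have e : p.2.2.1 + q.2.2.1 - (p.1 + q.1) = (p.2.2.1 - p.1) + (q.2.2.1 - q.1) := by ring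
      rw [e]
      exact N.add_mem hp3 hq3
    · show p.2.2.2 + q.2.2.2 - (p.1 + q.1) ∈ N
      have e : p.2.2.2 + q.2.2.2 - (p.1 + q.1) = (p.2.2.2 - p.1) + (q.2.2.2 - q.1) := by ring
      rw [e]
      exact N.add_mem hp4 hq4
    · show p.2.2.2 + q.2.2.2 - (p.2.2.1 + q.2.2.1) = b * (p.2.1 + q.2.1 - (p.1 + q.1))
      linear_combination hpb + hqb
  algebraMap_mem' := by
    intro a
    refine ⟨?_, ?_, ?_, ?_⟩
    · show algebraMap A B' a - algebraMap A B' a ∈ N
      rw [sub_self]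
      exact N.zero_mem
    · show algebraMap A B' a - algebraMap A B' a ∈ N
      rw [sub_self]
      exact N.zero_mem
    · show algebraMap A B' a - algebraMap A B' a ∈ N
      rw [sub_self]
      exact N.zero_mem
    · show algebraMap A B' a - algebraMap A B' a =
        b * (algebraMap A B' a - algebraMap A B' a)
      rw [sub_self, mul_zero]

theorem mem_Rb {N : Ideal B'} {hN : ∀ x ∈ N, ∀ y ∈ N, x * y = 0} {b : B'}
    (p : B' × B' × B' × B') : p ∈ Rb (A := A) N hN b ↔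
      p.2.1 - p.1 ∈ N ∧ p.2.2.1 - p.1 ∈ N ∧ p.2.2.2 - p.1 ∈ N ∧
        p.2.2.2 - p.2.2.1 = b * (p.2.1 - p.1) := Iff.rfl

theorem sub_mem_ker_of_comp_eq {v v' : C →ₐ[A] B'} (e : π.comp v = π.comp v') (x : C) :
    v x - v' x ∈ RingHom.ker π := by
  rw [RingHom.mem_ker, map_sub, sub_eq_zero]
  exact congrArg (fun t : C →ₐ[A] Bb => t x) e

/-- The transition maps are affine-linear. -/
theorem tr_affine (hFE : FE F c) (hπ : SqZ π) (ub : C →ₐ[A] Bb) (v₁ v₂ v₃ v₄ : C →ₐ[A] B')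
    (b : B')
    (h₁ : F.map (π.comp v₁) c = F.map ub c) (h₂ : F.map (π.comp v₂) c = F.map ub c)
    (h₃ : F.map (π.comp v₃) c = F.map ub c) (h₄ : F.map (π.comp v₄) c = F.map ub c)
    (e₂ : π.comp v₂ = π.comp v₁) (e₃ : π.comp v₃ = π.comp v₁) (e₄ : π.comp v₄ = π.comp v₁)
    (hb : ∀ x, v₄ x - v₃ x = b * (v₂ x - v₁ x)) (x : C) :
    tr hFE hπ ub v₄ h₄ x - tr hFE hπ ub v₃ h₃ x =
      b * (tr hFE hπ ub v₂ h₂ x - tr hFE hπ ub v₁ h₁ x) := by
  obtain ⟨R, hR⟩ : ∃ R : Subalgebra A (B' × B' × B' × B'),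
      R = Rb (A := A) (RingHom.ker π) hπ.ker_sq b := ⟨_, rfl⟩
  have hRmem : ∀ p : B' × B' × B' × B', p ∈ R ↔
      p.2.1 - p.1 ∈ RingHom.ker π ∧ p.2.2.1 - p.1 ∈ RingHom.ker π ∧
        p.2.2.2 - p.1 ∈ RingHom.ker π ∧ p.2.2.2 - p.2.2.1 = b * (p.2.1 - p.1) := by
    intro p
    rw [hR]
    exact mem_Rb p
  have hvP : ∀ y, (v₁.prod (v₂.prod (v₃.prod v₄))) y ∈ R := fun y =>
    (hRmem _).2 ⟨sub_mem_ker_of_comp_eq e₂ y, sub_mem_ker_of_comp_eq e₃ y,
      sub_mem_ker_of_comp_eq e₄ y, hb y⟩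
  obtain ⟨vR, hvR⟩ : ∃ vR : C →ₐ[A] R, ∀ y, (vR y : B' × B' × B' × B') =
      (v₁ y, v₂ y, v₃ y, v₄ y) :=
    ⟨(v₁.prod (v₂.prod (v₃.prod v₄))).codRestrict R hvP, fun y => rfl⟩
  obtain ⟨p₁, hp₁⟩ : ∃ p : R →ₐ[A] B', ∀ y : R, p y = (y : B' × B' × B' × B').1 :=
    ⟨(AlgHom.fst A B' _).comp R.val, fun y => rfl⟩
  obtain ⟨p₂, hp₂⟩ : ∃ p : R →ₐ[A] B', ∀ y : R, p y = (y : B' × B' × B' × B').2.1 :=
    ⟨((AlgHom.fst A B' _).comp (AlgHom.snd A B' _)).comp R.val, fun y => rfl⟩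
  obtain ⟨p₃, hp₃⟩ : ∃ p : R →ₐ[A] B', ∀ y : R, p y = (y : B' × B' × B' × B').2.2.1 :=
    ⟨((AlgHom.fst A B' _).comp ((AlgHom.snd A B' _).comp (AlgHom.snd A B' _))).comp R.val,
      fun y => rfl⟩
  obtain ⟨p₄, hp₄⟩ : ∃ p : R →ₐ[A] B', ∀ y : R, p y = (y : B' × B' × B' × B').2.2.2 :=
    ⟨((AlgHom.snd A B' _).comp ((AlgHom.snd A B' _).comp (AlgHom.snd A B' _))).comp R.val,
      fun y => rfl⟩
  have hπR : SqZ (π.comp p₁) := by
    constructor
    · intro y
      obtain ⟨z, rfl⟩ := hπ.surj y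
      have hz : (z, z, z, z) ∈ R := by
        rw [hRmem]
        refine ⟨?_, ?_, ?_, ?_⟩
        · show z - z ∈ RingHom.ker π
          rw [sub_self]; exact Ideal.zero_mem _
        · show z - z ∈ RingHom.ker π
          rw [sub_self]; exact Ideal.zero_mem _
        · show z - z ∈ RingHom.ker π
          rw [sub_self]; exact Ideal.zero_mem _
        · show z - z = b * (z - z)
          rw [sub_self, mul_zero]
      refine ⟨⟨(z, z, z, z), hz⟩, ?_⟩
      show π (p₁ ⟨(z, z, z, z), hz⟩) = π z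
      rw [hp₁]
    · intro y y' hy hy'
      obtain ⟨a2, a3, a4, -⟩ := (hRmem _).1 y.2
      obtain ⟨b2, b3, b4, -⟩ := (hRmem _).1 y'.2
      have a1 : (y : B' × B' × B' × B').1 ∈ RingHom.ker π := by
        rw [RingHom.mem_ker, ← hp₁]; exact hy
      have b1 : (y' : B' × B' × B' × B').1 ∈ RingHom.ker π := by
        rw [RingHom.mem_ker, ← hp₁]; exact hy'
      have a2' : (y : B' × B' × B' × B').2.1 ∈ RingHom.ker π := by
        have := Ideal.add_mem _ a2 a1; rwa [sub_add_cancel] at this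
      have a3' : (y : B' × B' × B' × B').2.2.1 ∈ RingHom.ker π := by
        have := Ideal.add_mem _ a3 a1; rwa [sub_add_cancel] at this
      have a4' : (y : B' × B' × B' × B').2.2.2 ∈ RingHom.ker π := by
        have := Ideal.add_mem _ a4 a1; rwa [sub_add_cancel] at this
      have b2' : (y' : B' × B' × B' × B').2.1 ∈ RingHom.ker π := by
        have := Ideal.add_mem _ b2 b1; rwa [sub_add_cancel] at this
      have b3' : (y' : B' × B' × B' × B').2.2.1 ∈ RingHom.ker π := by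
        have := Ideal.add_mem _ b3 b1; rwa [sub_add_cancel] at this
      have b4' : (y' : B' × B' × B' × B').2.2.2 ∈ RingHom.ker π := by
        have := Ideal.add_mem _ b4 b1; rwa [sub_add_cancel] at this
      apply Subtype.ext
      show (y : B' × B' × B' × B') * (y' : B' × B' × B' × B') = 0
      exact Prod.ext (hπ.ker_sq _ a1 _ b1) (Prod.ext (hπ.ker_sq _ a2' _ b2')
        (Prod.ext (hπ.ker_sq _ a3' _ b3') (hπ.ker_sq _ a4' _ b4')))
  have hl : F.map ((π.comp p₁).comp vR) c = F.map ub c := by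
    have : (π.comp p₁).comp vR = π.comp v₁ := by
      ext y
      show π (p₁ (vR y)) = π (v₁ y)
      rw [hp₁, hvR]
    rw [this]
    exact h₁
  obtain ⟨wR, ⟨hw1, hw2⟩, -⟩ := tr_exists hFE hπR ub vR hl
  have hk : ∀ (p : R →ₐ[A] B') (v : C →ₐ[A] B') (h : F.map (π.comp v) c = F.map ub c),
      p.comp vR = v → π.comp p = π.comp p₁ → p.comp wR = tr hFE hπ ub v h := by
    intro p v h hpv hπp
    apply tr_unique
    · rw [← AlgHom.comp_assoc, hπp, hw1]
    · rw [F.map_comp, hw2, ← F.map_comp, hpv]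
  have hπp : ∀ (p : R →ₐ[A] B'), (∀ y : R, p y - p₁ y ∈ RingHom.ker π) →
      π.comp p = π.comp p₁ := by
    intro p hp
    ext y
    have := hp y
    rw [RingHom.mem_ker, map_sub, sub_eq_zero] at this
    exact this
  have k₁ := hk p₁ v₁ h₁ (by ext y; show p₁ (vR y) = v₁ y; rw [hp₁, hvR]) rfl
  have k₂ := hk p₂ v₂ h₂ (by ext y; show p₂ (vR y) = v₂ y; rw [hp₂, hvR])
    (hπp p₂ (fun y => by rw [hp₂, hp₁]; exact ((hRmem _).1 y.2).1))
  have k₃ := hk p₃ v₃ h₃ (by ext y; show p₃ (vR y) = v₃ y; rw [hp₃, hvR])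
    (hπp p₃ (fun y => by rw [hp₃, hp₁]; exact ((hRmem _).1 y.2).2.1))
  have k₄ := hk p₄ v₄ h₄ (by ext y; show p₄ (vR y) = v₄ y; rw [hp₄, hvR])
    (hπp p₄ (fun y => by rw [hp₄, hp₁]; exact ((hRmem _).1 y.2).2.2.1))
  rw [← k₁, ← k₂, ← k₃, ← k₄]
  show p₄ (wR x) - p₃ (wR x) = b * (p₂ (wR x) - p₁ (wR x))
  rw [hp₁, hp₂, hp₃, hp₄]
  exact ((hRmem _).1 (wR x).2).2.2.2

/-! ## Derivations -/

/-- `N`-valued `A`-derivations along `u`. -/
def Der (u : C →ₐ[A] B') (N : Ideal B') : Submodule A (C →ₗ[A] B') where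
  carrier := {d | (∀ x, d x ∈ N) ∧ ∀ x y, d (x * y) = u x * d y + u y * d x}
  add_mem' := by
    rintro d d' ⟨h1, h2⟩ ⟨h1', h2'⟩
    refine ⟨fun x => ?_, fun x y => ?_⟩
    · rw [LinearMap.add_apply]
      exact N.add_mem (h1 x) (h1' x)
    · rw [LinearMap.add_apply, LinearMap.add_apply, LinearMap.add_apply, h2, h2']
      ring
  zero_mem' := ⟨fun x => by rw [LinearMap.zero_apply]; exact N.zero_mem, fun x y => by simp⟩
  smul_mem' := by
    rintro a d ⟨h1, h2⟩
    refine ⟨fun x => ?_, fun x y => ?_⟩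
    · rw [LinearMap.smul_apply, Algebra.smul_def]
      exact N.mul_mem_left _ (h1 x)
    · rw [LinearMap.smul_apply, LinearMap.smul_apply, LinearMap.smul_apply, h2, smul_add,
        mul_smul_comm, mul_smul_comm]

theorem mem_Der {u : C →ₐ[A] B'} {N : Ideal B'} (d : C →ₗ[A] B') :
    d ∈ Der u N ↔ (∀ x, d x ∈ N) ∧ ∀ x y, d (x * y) = u x * d y + u y * d x := Iff.rfl

theorem Der.map_one_eq_zero {u : C →ₐ[A] B'} {N : Ideal B'} (d : Der u N) : d.1 1 = 0 := by
  have h := d.2.2 1 1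
  rw [mul_one, map_one u, one_mul] at h
  have h' : d.1 1 + 0 = d.1 1 + d.1 1 := by rw [add_zero]; exact h
  exact (add_left_cancel h').symm

/-- Multiplication of a derivation by a scalar of the target ring. -/
def Der.bsmul {u : C →ₐ[A] B'} {N : Ideal B'} (b : B') (d : Der u N) : Der u N :=
  ⟨{ toFun := fun x => b * d.1 x
     map_add' := fun x y => by rw [map_add, mul_add]
     map_smul' := fun a x => by rw [map_smul, RingHom.id_apply, mul_smul_comm] },
    fun x => N.mul_mem_left _ (d.2.1 x), fun x y => by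
      show b * d.1 (x * y) = u x * (b * d.1 y) + u y * (b * d.1 x)
      rw [d.2.2 x y]
      ring⟩

@[simp] theorem Der.bsmul_apply {u : C →ₐ[A] B'} {N : Ideal B'} (b : B') (d : Der u N) (x : C) :
    (Der.bsmul b d).1 x = b * d.1 x := rfl

/-- Add a derivation to an algebra homomorphism. -/
def addDer (u : C →ₐ[A] B') {N : Ideal B'} (hN : ∀ x ∈ N, ∀ y ∈ N, x * y = 0) (d : Der u N) :
    C →ₐ[A] B' :=
  AlgHom.ofLinearMap (u.toLinearMap + d.1)
    (by
      rw [LinearMap.add_apply, Der.map_one_eq_zero d, add_zero]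
      exact map_one u)
    (by
      intro x y
      have z := hN _ (d.2.1 x) _ (d.2.1 y)
      simp only [LinearMap.add_apply, AlgHom.toLinearMap_apply]
      rw [d.2.2 x y, map_mul]
      linear_combination (-1 : B') * z)

@[simp] theorem addDer_apply (u : C →ₐ[A] B') {N : Ideal B'} (hN : ∀ x ∈ N, ∀ y ∈ N, x * y = 0)
    (d : Der u N) (x : C) : addDer u hN d x = u x + d.1 x := rfl

/-- The difference of two algebra homomorphisms congruent to `u` modulo `N`. -/
def subDer (u v v' : C →ₐ[A] B') {N : Ideal B'} (hN : ∀ x ∈ N, ∀ y ∈ N, x * y = 0)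
    (hv : ∀ x, v x - u x ∈ N) (hv' : ∀ x, v' x - u x ∈ N) : Der u N :=
  ⟨v.toLinearMap - v'.toLinearMap, fun x => by
      have e : (v.toLinearMap - v'.toLinearMap) x = (v x - u x) - (v' x - u x) := by
        simp only [LinearMap.sub_apply, AlgHom.toLinearMap_apply]
        ring
      rw [e]
      exact N.sub_mem (hv x) (hv' x), fun x y => by
      have z1 := hN _ (hv x) _ (hv y)
      have z2 := hN _ (hv' x) _ (hv' y)
      simp only [LinearMap.sub_apply, AlgHom.toLinearMap_apply, map_mul]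
      linear_combination z1 - z2⟩

@[simp] theorem subDer_apply (u v v' : C →ₐ[A] B') {N : Ideal B'}
    (hN : ∀ x ∈ N, ∀ y ∈ N, x * y = 0) (hv : ∀ x, v x - u x ∈ N) (hv' : ∀ x, v' x - u x ∈ N)
    (x : C) : (subDer u v v' hN hv hv').1 x = v x - v' x := rfl

/-- Push a derivation forward along an algebra homomorphism. -/
def mapDer {B'' : Type u} [CommRing B''] [Algebra A B''] (g : B' →ₐ[A] B'') {N : Ideal B'}
    {N'' : Ideal B''} (hg : ∀ y ∈ N, g y ∈ N'') {u : C →ₐ[A] B'} (d : Der u N) :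
    Der (g.comp u) N'' :=
  ⟨g.toLinearMap ∘ₗ d.1, fun x => hg _ (d.2.1 x), fun x y => by
    show g (d.1 (x * y)) = g (u x) * g (d.1 y) + g (u y) * g (d.1 x)
    rw [d.2.2 x y, map_add, map_mul, map_mul]⟩

@[simp] theorem mapDer_apply {B'' : Type u} [CommRing B''] [Algebra A B''] (g : B' →ₐ[A] B'')
    {N : Ideal B'} {N'' : Ideal B''} (hg : ∀ y ∈ N, g y ∈ N'') {u : C →ₐ[A] B'} (d : Der u N)
    (x : C) : (mapDer g hg d).1 x = g (d.1 x) := rfl

/-- Change of base point for derivations (congruent base points give the same derivations). -/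
def Der.cast {u u' : C →ₐ[A] B'} {N : Ideal B'} (hN : ∀ x ∈ N, ∀ y ∈ N, x * y = 0)
    (huu : ∀ x, u' x - u x ∈ N) (d : Der u N) : Der u' N :=
  ⟨d.1, d.2.1, fun x y => by
    have z1 := hN _ (huu x) _ (d.2.1 y)
    have z2 := hN _ (huu y) _ (d.2.1 x)
    rw [d.2.2 x y]
    linear_combination (-1 : B') * z1 - z2⟩

@[simp] theorem Der.cast_apply {u u' : C →ₐ[A] B'} {N : Ideal B'}
    (hN : ∀ x ∈ N, ∀ y ∈ N, x * y = 0) (huu : ∀ x, u' x - u x ∈ N) (d : Der u N) (x : C) :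
    (Der.cast hN huu d).1 x = d.1 x := rfl

/-! ## The linear part of the transition maps -/

theorem pi_addDer (hπ : SqZ π) (u' : C →ₐ[A] B') (d : Der u' (RingHom.ker π)) :
    π.comp (addDer u' hπ.ker_sq d) = π.comp u' := by
  ext x
  show π (addDer u' hπ.ker_sq d x) = π (u' x)
  rw [addDer_apply, map_add, (RingHom.mem_ker).1 (d.2.1 x), add_zero]

theorem compat_addDer (hπ : SqZ π) (u u' : C →ₐ[A] B')
    (hc : F.map (π.comp u') c = F.map (π.comp u) c) (d : Der u' (RingHom.ker π)) :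
    F.map (π.comp (addDer u' hπ.ker_sq d)) c = F.map (π.comp u) c := by
  rw [pi_addDer hπ u' d]
  exact hc

theorem tr_sub_mem (hFE : FE F c) (hπ : SqZ π) (u v : C →ₐ[A] B')
    (h : F.map (π.comp v) c = F.map (π.comp u) c) (x : C) :
    tr hFE hπ (π.comp u) v h x - u x ∈ RingHom.ker π := by
  rw [RingHom.mem_ker, map_sub, sub_eq_zero, tr_apply_pi]
  rfl

/-- The linear part of the transition map from base point `u'` to base point `u`. -/
noncomputable def thetaFun (hFE : FE F c) (hπ : SqZ π) (u u' : C →ₐ[A] B')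
    (hc : F.map (π.comp u') c = F.map (π.comp u) c) (d : Der u' (RingHom.ker π)) :
    Der u (RingHom.ker π) :=
  subDer u (tr hFE hπ (π.comp u) (addDer u' hπ.ker_sq d) (compat_addDer hπ u u' hc d))
    (tr hFE hπ (π.comp u) u' hc) hπ.ker_sq
    (tr_sub_mem hFE hπ u _ _) (tr_sub_mem hFE hπ u _ _)

theorem thetaFun_apply (hFE : FE F c) (hπ : SqZ π) (u u' : C →ₐ[A] B')
    (hc : F.map (π.comp u') c = F.map (π.comp u) c) (d : Der u' (RingHom.ker π)) (x : C) :
    (thetaFun hFE hπ u u' hc d).1 x =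
      tr hFE hπ (π.comp u) (addDer u' hπ.ker_sq d) (compat_addDer hπ u u' hc d) x -
        tr hFE hπ (π.comp u) u' hc x := rfl

theorem thetaFun_add (hFE : FE F c) (hπ : SqZ π) (u u' : C →ₐ[A] B')
    (hc : F.map (π.comp u') c = F.map (π.comp u) c) (d₁ d₂ : Der u' (RingHom.ker π)) :
    thetaFun hFE hπ u u' hc (d₁ + d₂) =
      thetaFun hFE hπ u u' hc d₁ + thetaFun hFE hπ u u' hc d₂ := by
  apply Subtype.ext
  apply LinearMap.ext
  intro x
  have key := tr_affine hFE hπ (π.comp u) u' (addDer u' hπ.ker_sq d₁) (addDer u' hπ.ker_sq d₂)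
    (addDer u' hπ.ker_sq (d₁ + d₂)) 1 hc (compat_addDer hπ u u' hc d₁)
    (compat_addDer hπ u u' hc d₂) (compat_addDer hπ u u' hc (d₁ + d₂))
    (pi_addDer hπ u' d₁) (pi_addDer hπ u' d₂) (pi_addDer hπ u' (d₁ + d₂))
    (fun y => by
      simp only [addDer_apply, Submodule.coe_add, LinearMap.add_apply]
      ring) x
  rw [Submodule.coe_add, LinearMap.add_apply, thetaFun_apply, thetaFun_apply, thetaFun_apply]
  linear_combination key

theorem thetaFun_bsmul (hFE : FE F c) (hπ : SqZ π) (u u' : C →ₐ[A] B')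
    (hc : F.map (π.comp u') c = F.map (π.comp u) c) (b : B') (d : Der u' (RingHom.ker π)) :
    thetaFun hFE hπ u u' hc (Der.bsmul b d) = Der.bsmul b (thetaFun hFE hπ u u' hc d) := by
  apply Subtype.ext
  apply LinearMap.ext
  intro x
  have key := tr_affine hFE hπ (π.comp u) u' (addDer u' hπ.ker_sq d) u'
    (addDer u' hπ.ker_sq (Der.bsmul b d)) b hc (compat_addDer hπ u u' hc d) hc
    (compat_addDer hπ u u' hc (Der.bsmul b d))
    (pi_addDer hπ u' d) rfl (pi_addDer hπ u' (Der.bsmul b d))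
    (fun y => by
      simp only [addDer_apply, Der.bsmul_apply]
      ring) x
  rw [Der.bsmul_apply, thetaFun_apply, thetaFun_apply]
  exact key

/-- The linear part of the transition map, as an `A`-linear map. -/
noncomputable def theta (hFE : FE F c) (hπ : SqZ π) (u u' : C →ₐ[A] B')
    (hc : F.map (π.comp u') c = F.map (π.comp u) c) :
    Der u' (RingHom.ker π) →ₗ[A] Der u (RingHom.ker π) where
  toFun := thetaFun hFE hπ u u' hc
  map_add' := thetaFun_add hFE hπ u u' hc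
  map_smul' := fun a d => by
    have e : a • d = Der.bsmul (algebraMap A B' a) d := by
      apply Subtype.ext
      apply LinearMap.ext
      intro x
      rw [Der.bsmul_apply, Submodule.coe_smul, LinearMap.smul_apply, Algebra.smul_def]
    have e' : a • thetaFun hFE hπ u u' hc d =
        Der.bsmul (algebraMap A B' a) (thetaFun hFE hπ u u' hc d) := by
      apply Subtype.ext
      apply LinearMap.ext
      intro x
      rw [Der.bsmul_apply, Submodule.coe_smul, LinearMap.smul_apply, Algebra.smul_def]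
    rw [RingHom.id_apply, e, e', thetaFun_bsmul]

theorem theta_apply (hFE : FE F c) (hπ : SqZ π) (u u' : C →ₐ[A] B')
    (hc : F.map (π.comp u') c = F.map (π.comp u) c) (d : Der u' (RingHom.ker π)) (x : C) :
    (theta hFE hπ u u' hc d).1 x =
      tr hFE hπ (π.comp u) (addDer u' hπ.ker_sq d) (compat_addDer hπ u u' hc d) x -
        tr hFE hπ (π.comp u) u' hc x := rfl

theorem theta_bsmul (hFE : FE F c) (hπ : SqZ π) (u u' : C →ₐ[A] B')
    (hc : F.map (π.comp u') c = F.map (π.comp u) c) (b : B') (d : Der u' (RingHom.ker π)) :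
    theta hFE hπ u u' hc (Der.bsmul b d) = Der.bsmul b (theta hFE hπ u u' hc d) :=
  thetaFun_bsmul hFE hπ u u' hc b d

theorem theta_natural (hFE : FE F c) (hπ : SqZ π) {B'' Bb'' : Type u} [CommRing B'']
    [Algebra A B''] [CommRing Bb''] [Algebra A Bb''] {π'' : B'' →ₐ[A] Bb''} (hπ'' : SqZ π'')
    (g : B' →ₐ[A] B'') (gb : Bb →ₐ[A] Bb'') (hg : gb.comp π = π''.comp g)
    (u u' : C →ₐ[A] B') (hc : F.map (π.comp u') c = F.map (π.comp u) c)
    (hc'' : F.map (π''.comp (g.comp u')) c = F.map (π''.comp (g.comp u)) c)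
    (hgN : ∀ y ∈ RingHom.ker π, g y ∈ RingHom.ker π'')
    (d : Der u' (RingHom.ker π)) (x : C) :
    g ((theta hFE hπ u u' hc d).1 x) =
      (theta hFE hπ'' (g.comp u) (g.comp u') hc'' (mapDer g hgN d)).1 x := by
  have hub : π''.comp (g.comp u) = gb.comp (π.comp u) := by
    rw [← AlgHom.comp_assoc, ← hg, AlgHom.comp_assoc]
  have hadd : g.comp (addDer u' hπ.ker_sq d) =
      addDer (g.comp u') hπ''.ker_sq (mapDer g hgN d) := by
    ext y
    show g (addDer u' hπ.ker_sq d y) = _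
    rw [addDer_apply, addDer_apply, map_add]
    rfl
  have n1 := tr_natural hFE hπ hπ'' g gb hg (π.comp u) (addDer u' hπ.ker_sq d)
    (compat_addDer hπ u u' hc d) (π''.comp (g.comp u)) hub
    (by rw [hadd]; exact compat_addDer hπ'' (g.comp u) (g.comp u') hc'' (mapDer g hgN d))
  have n2 := tr_natural hFE hπ hπ'' g gb hg (π.comp u) u' hc (π''.comp (g.comp u)) hub hc''
  rw [theta_apply, theta_apply, map_sub]
  have e1 : g (tr hFE hπ (π.comp u) (addDer u' hπ.ker_sq d) (compat_addDer hπ u u' hc d) x) =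
      (g.comp (tr hFE hπ (π.comp u) (addDer u' hπ.ker_sq d) (compat_addDer hπ u u' hc d))) x :=
    rfl
  have e2 : g (tr hFE hπ (π.comp u) u' hc x) = (g.comp (tr hFE hπ (π.comp u) u' hc)) x := rfl
  rw [e1, e2, n1, n2]
  congr 2
  exact tr_congr hFE hπ'' _ _ _ hadd _ _

end Groth.Agent.Helper2.FDesc
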