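import Mathlib
import Groth.Agent.Lib.Helper2.FDesc.Alg1

/-!
# Quasi-coherence of modules of derivations of a smooth algebra (helper2)

For a smooth `A`-algebra `C`, an `A`-algebra `B'` with `u : C →ₐ[A] B'`, and a flat `A`-algebra
`B`, the comparison map `B ⊗ Der(u, N) → Der(ι ∘ u, N₂)` (`ι : B' → B ⊗ B'`) is injective and
surjective (under the natural hypotheses on the ideals `N`, `N₂`).
-/

set_option autoImplicit false
set_option synthInstance.maxHeartbeats 400000
set_option maxHeartbeats 1000000
set_option linter.style.haveILetI false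
set_option linter.unusedSectionVars false
set_option linter.unusedVariables false
set_option linter.unusedSimpArgs false
set_option linter.unnecessarySimpa false

universe u w

open TensorProduct

namespace Groth.Agent.Helper2.FDesc

variable {A : Type u} [CommRing A] {C : Type u} [CommRing C] [Algebra A C]
variable (B : Type u) [CommRing B] [Algebra A B] {B' : Type u} [CommRing B'] [Algebra A B']

/-- The comparison map `b ⊗ d ↦ (x ↦ b ⊗ d x)`. -/
noncomputable def kappa (u : C →ₐ[A] B') (N : Ideal B') :
    B ⊗[A] ↥(Der u N) →ₗ[A] (C →ₗ[A] B ⊗[A] B') :=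
  TensorProduct.lift
    (LinearMap.mk₂ A (fun (b : B) (d : ↥(Der u N)) => (TensorProduct.mk A B B' b).comp d.1)
      (fun b b' d => by ext x; simp [TensorProduct.add_tmul])
      (fun a b d => by ext x; simp [TensorProduct.smul_tmul'])
      (fun b d d' => by ext x; simp [TensorProduct.tmul_add])
      (fun a b d => by ext x; simp))

@[simp] theorem kappa_tmul (u : C →ₐ[A] B') (N : Ideal B') (b : B) (d : ↥(Der u N)) (x : C) :
    kappa B u N (b ⊗ₜ d) x = b ⊗ₜ d.1 x := by
  simp [kappa]

theorem kappa_injective [Module.Flat A B] [Algebra.FiniteType A C] (u : C →ₐ[A] B')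
    (N : Ideal B') (y : B ⊗[A] ↥(Der u N)) (hy : kappa B u N y = 0) : y = 0 := by
  classical
  obtain ⟨s, hs⟩ := (Algebra.FiniteType.out : (⊤ : Subalgebra A C).FG)
  obtain ⟨E, hEdef⟩ : ∃ E : ↥(Der u N) →ₗ[A] (↥s → B'), ∀ d i, E d i = d.1 (i : C) :=
    ⟨LinearMap.pi (fun i => (LinearMap.applyₗ (i : C)).comp (Der u N).subtype), fun d i => rfl⟩
  have hE : Function.Injective E := by
    rw [injective_iff_map_eq_zero]
    intro d hd
    have h0 : ∀ i ∈ s, d.1 i = 0 := fun i hi => by
      have := congrFun hd ⟨i, hi⟩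
      rw [hEdef] at this
      exact this
    let K : Subalgebra A C :=
      { carrier := {x | d.1 x = 0}
        mul_mem' := fun {x y} hx hy => by
          show d.1 (x * y) = 0
          rw [d.2.2 x y, (hx : d.1 x = 0), (hy : d.1 y = 0), mul_zero, mul_zero, add_zero]
        add_mem' := fun {x y} hx hy => by
          show d.1 (x + y) = 0
          rw [map_add, (hx : d.1 x = 0), (hy : d.1 y = 0), add_zero]
        algebraMap_mem' := fun a => by
          show d.1 (algebraMap A C a) = 0
          rw [Algebra.algebraMap_eq_smul_one, map_smul, Der.map_one_eq_zero, smul_zero] }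
    have hK : Algebra.adjoin A (s : Set C) ≤ K := Algebra.adjoin_le (fun i hi => h0 i hi)
    rw [hs] at hK
    apply Subtype.ext
    apply LinearMap.ext
    intro x
    exact hK (Algebra.mem_top : x ∈ (⊤ : Subalgebra A C))
  have hEB : Function.Injective (E.lTensor B) :=
    Module.Flat.lTensor_preserves_injective_linearMap E hE
  have key : ∀ z : B ⊗[A] ↥(Der u N),
      TensorProduct.piRight A A B (fun _ : ↥s => B') (E.lTensor B z) =
        fun i : ↥s => kappa B u N z (i : C) := by
    intro z
    induction z using TensorProduct.induction_on with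
    | zero =>
      rw [map_zero, map_zero, map_zero]
      rfl
    | tmul b d =>
      funext i
      rw [LinearMap.lTensor_tmul, TensorProduct.piRight_apply, TensorProduct.piRightHom_tmul,
        kappa_tmul]
      show b ⊗ₜ[A] E d i = b ⊗ₜ[A] d.1 (i : C)
      rw [hEdef]
    | add z z' hz hz' =>
      rw [map_add, map_add, hz, hz', map_add]
      rfl
  apply hEB
  rw [map_zero]
  apply (TensorProduct.piRight A A B (fun _ : ↥s => B')).injective
  rw [key, hy, map_zero]
  rfl

/-- A "dual basis" of derivations of a smooth algebra. -/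
theorem exists_dual_basis (A C : Type u) [CommRing A] [CommRing C] [Algebra A C]
    [Algebra.Smooth A C] :
    ∃ (n : ℕ) (ξ : Fin n → C →ₗ[A] C), (∀ i x y, ξ i (x * y) = x * ξ i y + y * ξ i x) ∧
      ∀ (R' : Type u) [CommRing R'] [Algebra A R'] (v : C →ₐ[A] R') (δ : C →ₗ[A] R')
        (J : Ideal R'), (∀ x y, δ (x * y) = v x * δ y + v y * δ x) → (∀ x, δ x ∈ J) →
        ∃ r : Fin n → R', (∀ i, r i ∈ J) ∧ ∀ x, δ x = ∑ i, v (ξ i x) * r i := by
  classical
  obtain ⟨n, f, gs, -, -, hfg⟩ := Module.Finite.exists_comp_eq_id_of_projective C Ω[C⁄A]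
  obtain ⟨ξ, hξ⟩ : ∃ ξ : Fin n → C →ₗ[A] C, ∀ i x, ξ i x = gs (KaehlerDifferential.D A C x) i :=
    ⟨fun i => (((LinearMap.proj i).comp gs).restrictScalars A).comp
      (KaehlerDifferential.D A C).toLinearMap, fun i x => rfl⟩
  refine ⟨n, ξ, fun i x y => ?_, ?_⟩
  · rw [hξ, hξ, hξ, Derivation.leibniz, map_add, map_smul, map_smul]
    rfl
  · intro R' _ _ v δ J hδ hJ
    letI : Algebra C R' := v.toRingHom.toAlgebra
    haveI : IsScalarTower A C R' := IsScalarTower.of_algebraMap_eq (fun a => (v.commutes a).symm)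
    have hsm : ∀ (x : C) (r : R'), x • r = v x * r := fun x r => rfl
    let Dv : Derivation A C R' := Derivation.mk' δ (fun a b => by rw [hδ, hsm, hsm])
    let g : Ω[C⁄A] →ₗ[C] R' := Dv.liftKaehlerDifferential
    have hg : ∀ x, g (KaehlerDifferential.D A C x) = δ x := fun x =>
      Derivation.liftKaehlerDifferential_comp_D Dv x
    have hgJ : ∀ ω, g ω ∈ J := by
      intro ω
      have hω : ω ∈ Submodule.span C (Set.range (KaehlerDifferential.D A C)) := by
        rw [KaehlerDifferential.span_range_derivation]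
        trivial
      induction hω using Submodule.span_induction with
      | mem ω h =>
        obtain ⟨x, rfl⟩ := h
        rw [hg]
        exact hJ x
      | zero =>
        rw [map_zero]
        exact J.zero_mem
      | add ω ω' _ _ h h' =>
        rw [map_add]
        exact J.add_mem h h'
      | smul a ω _ h =>
        rw [map_smul, hsm]
        exact J.mul_mem_left _ h
    refine ⟨fun i => g (f (fun j => if i = j then 1 else 0)), fun i => hgJ _, fun x => ?_⟩
    have h1 : f (gs (KaehlerDifferential.D A C x)) = KaehlerDifferential.D A C x :=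
      congrArg (fun t : Ω[C⁄A] →ₗ[C] Ω[C⁄A] => t (KaehlerDifferential.D A C x)) hfg
    have h2 := LinearMap.pi_apply_eq_sum_univ (g.comp f) (gs (KaehlerDifferential.D A C x))
    rw [LinearMap.comp_apply, h1, hg] at h2
    rw [h2]
    refine Finset.sum_congr rfl (fun i _ => ?_)
    rw [hsm, hξ]
    rfl

theorem mem_range_lTensor_of_mem_map (I : Ideal A) (N : Ideal B')
    (hIN : ∀ r ∈ I, ∀ b' : B', r • b' ∈ N) (z : B ⊗[A] B')
    (hz : z ∈ I.map (algebraMap A (B ⊗[A] B'))) :
    z ∈ LinearMap.range ((N.restrictScalars A).subtype.lTensor B) := by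
  have hz' : z ∈ I • (⊤ : Submodule A (B ⊗[A] B')) := by
    rw [Ideal.smul_top_eq_map]
    exact hz
  refine Submodule.smul_induction_on hz' (fun r hr n hn => ?_) (fun x y hx hy => ?_)
  · clear hn
    induction n using TensorProduct.induction_on with
    | zero =>
      rw [smul_zero]
      exact Submodule.zero_mem _
    | tmul b b' =>
      have hm : r • b' ∈ N.restrictScalars A := by
        rw [Submodule.restrictScalars_mem]
        exact hIN r hr b'
      refine ⟨b ⊗ₜ ⟨r • b', hm⟩, ?_⟩
      rw [LinearMap.lTensor_tmul, Submodule.subtype_apply, TensorProduct.tmul_smul]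
    | add x y hx hy =>
      rw [smul_add]
      exact Submodule.add_mem _ hx hy
  · exact Submodule.add_mem _ hx hy

theorem tmul_mem_map_of_mem (I : Ideal A) (b : B) (n : B')
    (hn : n ∈ I.map (algebraMap A B')) : b ⊗ₜ[A] n ∈ I.map (algebraMap A (B ⊗[A] B')) := by
  have hn' : n ∈ I • (⊤ : Submodule A B') := by
    rw [Ideal.smul_top_eq_map]
    exact hn
  have : b ⊗ₜ[A] n ∈ I • (⊤ : Submodule A (B ⊗[A] B')) := by
    refine Submodule.smul_induction_on hn' (fun r hr m _ => ?_) (fun x y hx hy => ?_)
    · rw [TensorProduct.tmul_smul]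
      exact Submodule.smul_mem_smul hr trivial
    · rw [TensorProduct.tmul_add]
      exact Submodule.add_mem _ hx hy
  rw [Ideal.smul_top_eq_map] at this
  exact this

section KappaD

variable (u : C →ₐ[A] B') (N : Ideal B') (N₂ : Ideal (B ⊗[A] B'))

theorem kappa_mem (hNN : ∀ (b : B) (n : B'), n ∈ N → b ⊗ₜ[A] n ∈ N₂)
    (y : B ⊗[A] ↥(Der u N)) :
    kappa B u N y ∈
      Der ((Algebra.TensorProduct.includeRight : B' →ₐ[A] B ⊗[A] B').comp u) N₂ := by
  induction y using TensorProduct.induction_on with
  | zero =>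
    rw [map_zero]
    exact Submodule.zero_mem _
  | tmul b d =>
    refine ⟨fun x => ?_, fun x y => ?_⟩
    · rw [kappa_tmul]
      exact hNN b _ (d.2.1 x)
    · rw [kappa_tmul, kappa_tmul, kappa_tmul, d.2.2 x y, TensorProduct.tmul_add]
      show _ = (1 : B) ⊗ₜ[A] u x * b ⊗ₜ[A] d.1 y + (1 : B) ⊗ₜ[A] u y * b ⊗ₜ[A] d.1 x
      rw [Algebra.TensorProduct.tmul_mul_tmul, Algebra.TensorProduct.tmul_mul_tmul, one_mul]
  | add y y' hy hy' =>
    rw [map_add]
    exact Submodule.add_mem _ hy hy'

/-- The comparison map, with values in the submodule of derivations. -/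
noncomputable def kappaD (hNN : ∀ (b : B) (n : B'), n ∈ N → b ⊗ₜ[A] n ∈ N₂) :
    B ⊗[A] ↥(Der u N) →ₗ[A]
    ↥(Der ((Algebra.TensorProduct.includeRight : B' →ₐ[A] B ⊗[A] B').comp u) N₂) :=
  LinearMap.codRestrict _ (kappa B u N) (kappa_mem B u N N₂ hNN)

@[simp] theorem kappaD_coe (hNN : ∀ (b : B) (n : B'), n ∈ N → b ⊗ₜ[A] n ∈ N₂)
    (y : B ⊗[A] ↥(Der u N)) :
    (kappaD B u N N₂ hNN y).1 = kappa B u N y := rfl

theorem kappaD_tmul (hNN : ∀ (b : B) (n : B'), n ∈ N → b ⊗ₜ[A] n ∈ N₂)
    (b : B) (d : ↥(Der u N)) (x : C) :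
    (kappaD B u N N₂ hNN (b ⊗ₜ d)).1 x = b ⊗ₜ d.1 x := by
  rw [kappaD_coe, kappa_tmul]

theorem kappaD_surjective [Algebra.Smooth A C]
    (hNN : ∀ (b : B) (n : B'), n ∈ N → b ⊗ₜ[A] n ∈ N₂)
    (hN₂ : ∀ z ∈ N₂, z ∈ LinearMap.range ((N.restrictScalars A).subtype.lTensor B))
    (D' : ↥(Der ((Algebra.TensorProduct.includeRight : B' →ₐ[A] B ⊗[A] B').comp u) N₂)) :
    ∃ y, kappaD B u N N₂ hNN y = D' := by
  classical
  obtain ⟨n, ξ, hξ, hdb⟩ := exists_dual_basis A C
  obtain ⟨r, hrJ, hr⟩ := hdb (B ⊗[A] B')
    ((Algebra.TensorProduct.includeRight : B' →ₐ[A] B ⊗[A] B').comp u) D'.1 N₂ D'.2.2 D'.2.1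
  choose z hz using fun i => hN₂ (r i) (hrJ i)
  -- the maps `n ↦ (x ↦ u (ξ i x) * n)`
  have hlam : ∀ i, ∃ lam : ↥(N.restrictScalars A) →ₗ[A] ↥(Der u N),
      ∀ (m : ↥(N.restrictScalars A)) (x : C), (lam m).1 x = u (ξ i x) * m.1 := by
    intro i
    refine ⟨{ toFun := fun m => ⟨{ toFun := fun x => u (ξ i x) * m.1
                                   map_add' := fun x y => by rw [map_add, map_add, add_mul]
                                   map_smul' := fun a x => by
                                     rw [map_smul, map_smul, RingHom.id_apply, smul_mul_assoc] },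
                fun x => N.mul_mem_left _ m.2, fun x y => by
                  show u (ξ i (x * y)) * m.1 = u x * (u (ξ i y) * m.1) + u y * (u (ξ i x) * m.1)
                  rw [hξ, map_add, map_mul, map_mul]
                  ring⟩
              map_add' := fun m m' => by
                apply Subtype.ext
                apply LinearMap.ext
                intro x
                show u (ξ i x) * (m.1 + m'.1) = u (ξ i x) * m.1 + u (ξ i x) * m'.1
                rw [mul_add]
              map_smul' := fun a m => by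
                apply Subtype.ext
                apply LinearMap.ext
                intro x
                show u (ξ i x) * (a • m.1) = a • (u (ξ i x) * m.1)
                rw [mul_smul_comm] }, fun m x => rfl⟩
  choose lam hlam' using hlam
  have hkey : ∀ (i : Fin n) (t : B ⊗[A] ↥(N.restrictScalars A)) (x : C),
      kappa B u N ((lam i).lTensor B t) x =
        (1 : B) ⊗ₜ[A] u (ξ i x) * ((N.restrictScalars A).subtype.lTensor B t) := by
    intro i t x
    induction t using TensorProduct.induction_on with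
    | zero =>
      rw [map_zero, map_zero, map_zero, LinearMap.zero_apply, mul_zero]
    | tmul b m =>
      rw [LinearMap.lTensor_tmul, LinearMap.lTensor_tmul, kappa_tmul, hlam',
        Submodule.subtype_apply, Algebra.TensorProduct.tmul_mul_tmul, one_mul]
    | add t t' ht ht' =>
      rw [map_add, map_add, map_add, LinearMap.add_apply, ht, ht', mul_add]
  refine ⟨∑ i, (lam i).lTensor B (z i), ?_⟩
  apply Subtype.ext
  apply LinearMap.ext
  intro x
  rw [kappaD_coe, map_sum, LinearMap.sum_apply, hr x]
  refine Finset.sum_congr rfl (fun i _ => ?_)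
  rw [hkey, hz]
  rfl

end KappaD

end Groth.Agent.Helper2.FDesc
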