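import Mathlib
import Groth.Agent.Lib.Helper2.FDesc.Alg2

/-!
# Descent of lifts along a faithfully flat cover (helper2)

The main algebraic theorem: let `F` be a set-valued functor on `A`-algebras with a formally étale
chart `c ∈ F(C)`, `C` smooth over `A`; let `I ⊆ A` be a square-zero ideal, `s ∈ F(A/I)`, and `B` a
faithfully flat `A`-algebra for which `F` satisfies the sheaf condition, such that `s` lifts over
`B` through the chart.  Then `s` lifts to `F(A)`.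
-/

set_option autoImplicit false
set_option synthInstance.maxHeartbeats 400000
set_option maxHeartbeats 2000000
set_option linter.style.haveILetI false
set_option linter.unusedSectionVars false
set_option linter.unusedVariables false
set_option linter.unusedSimpArgs false
set_option linter.unnecessarySimpa false

universe u w

open TensorProduct

namespace Groth.Agent.Helper2.FDesc

section Extra

variable {A : Type u} [CommRing A] {C : Type u} [CommRing C] [Algebra A C]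
variable {B' : Type u} [CommRing B'] [Algebra A B']

/-- `mapDer` as a linear map. -/
def mapDerL {B'' : Type u} [CommRing B''] [Algebra A B''] (g : B' →ₐ[A] B'') {N : Ideal B'}
    {N'' : Ideal B''} (hg : ∀ y ∈ N, g y ∈ N'') (u : C →ₐ[A] B') :
    ↥(Der u N) →ₗ[A] ↥(Der (g.comp u) N'') where
  toFun := mapDer g hg
  map_add' := fun d d' => by
    apply Subtype.ext
    apply LinearMap.ext
    intro x
    show g ((d + d').1 x) = g (d.1 x) + g (d'.1 x)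
    rw [Submodule.coe_add, LinearMap.add_apply, map_add]
  map_smul' := fun a d => by
    apply Subtype.ext
    apply LinearMap.ext
    intro x
    show g ((a • d).1 x) = a • g (d.1 x)
    rw [Submodule.coe_smul, LinearMap.smul_apply, map_smul]

@[simp] theorem mapDerL_apply {B'' : Type u} [CommRing B''] [Algebra A B''] (g : B' →ₐ[A] B'')
    {N : Ideal B'} {N'' : Ideal B''} (hg : ∀ y ∈ N, g y ∈ N'') (u : C →ₐ[A] B')
    (d : ↥(Der u N)) (x : C) : (mapDerL g hg u d).1 x = g (d.1 x) := rfl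

/-- Transport of derivations along an equality of base points. -/
def Der.castEq {u u' : C →ₐ[A] B'} {N : Ideal B'} (h : u = u') (d : ↥(Der u N)) :
    ↥(Der u' N) :=
  ⟨d.1, h ▸ d.2⟩

@[simp] theorem Der.castEq_apply {u u' : C →ₐ[A] B'} {N : Ideal B'} (h : u = u')
    (d : ↥(Der u N)) (x : C) : (Der.castEq h d).1 x = d.1 x := rfl

theorem theta_castEq {F : AFun.{u, w} A} {c : F.obj C} {Bb : Type u} [CommRing Bb] [Algebra A Bb]
    {π : B' →ₐ[A] Bb} (hFE : FE F c) (hπ : SqZ π) (u u' v' : C →ₐ[A] B') (h : u' = v')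
    (hc : F.map (π.comp u') c = F.map (π.comp u) c)
    (hc' : F.map (π.comp v') c = F.map (π.comp u) c) (d : ↥(Der u' (RingHom.ker π))) (x : C) :
    (theta hFE hπ u v' hc' (Der.castEq h d)).1 x = (theta hFE hπ u u' hc d).1 x := by
  subst h
  rfl

theorem mem_range_of_lTensor {M M' : Type*} [AddCommGroup M] [Module A M] [AddCommGroup M']
    [Module A M'] (B : Type*) [CommRing B] [Algebra A B] [Module.FaithfullyFlat A B]
    (φ : M →ₗ[A] M') (x : M') (h : (1 : B) ⊗ₜ[A] x ∈ LinearMap.range (φ.lTensor B)) :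
    x ∈ LinearMap.range φ := by
  obtain ⟨y, hy⟩ := h
  have hq : (LinearMap.range φ).mkQ.comp φ = 0 := by
    ext m
    simp
  have h1 : (1 : B) ⊗ₜ[A] ((LinearMap.range φ).mkQ x) = 0 := by
    have := congrArg ((LinearMap.range φ).mkQ.lTensor B) hy
    rw [LinearMap.lTensor_tmul, ← LinearMap.comp_apply, ← LinearMap.lTensor_comp, hq,
      LinearMap.lTensor_zero, LinearMap.zero_apply] at this
    exact this.symm
  have h2 := (Module.FaithfullyFlat.one_tmul_eq_zero_iff A (M' ⧸ LinearMap.range φ) (A := B)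
    ((LinearMap.range φ).mkQ x)).1 h1
  rwa [Submodule.mkQ_apply, Submodule.Quotient.mk_eq_zero] at h2

theorem exists_preimage_of_lTensor {M M' : Type*} [AddCommGroup M] [Module A M]
    [AddCommGroup M'] [Module A M'] (B : Type*) [CommRing B] [Algebra A B]
    [Module.FaithfullyFlat A B] (φ : M →ₗ[A] M') (x : M') (y : B ⊗[A] M)
    (h : φ.lTensor B y = (1 : B) ⊗ₜ[A] x) : ∃ m, φ m = x :=
  (LinearMap.mem_range).1 (mem_range_of_lTensor B φ x ((LinearMap.mem_range).2 ⟨y, h⟩))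

end Extra

section Quot

variable {A : Type u} [CommRing A] (I : Ideal A)

/-- The extension `I B'` of `I` to an `A`-algebra. -/
abbrev IB (B' : Type u) [CommRing B'] [Algebra A B'] : Ideal B' := I.map (algebraMap A B')

/-- The quotient map `B' → B' / I B'`. -/
abbrev piI (B' : Type u) [CommRing B'] [Algebra A B'] : B' →ₐ[A] B' ⧸ IB I B' :=
  Ideal.Quotient.mkₐ A (IB I B')

theorem mem_ker_piI {B' : Type u} [CommRing B'] [Algebra A B'] (x : B') :
    x ∈ RingHom.ker (piI I B') ↔ x ∈ IB I B' := by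
  rw [RingHom.mem_ker]
  exact Ideal.Quotient.eq_zero_iff_mem

theorem sq_zero_IB (hI : ∀ x ∈ I, ∀ y ∈ I, x * y = 0) (B' : Type u) [CommRing B']
    [Algebra A B'] : ∀ x ∈ IB I B', ∀ y ∈ IB I B', x * y = 0 := by
  intro x hx y hy
  have h1 : I * I = ⊥ := by
    rw [eq_bot_iff]
    intro z hz
    refine Submodule.mul_induction_on hz (fun a ha b hb => ?_) (fun a b ha hb => ?_)
    · rw [hI a ha b hb]
      exact Ideal.zero_mem _
    · exact Ideal.add_mem _ ha hb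
  have h2 : x * y ∈ IB I B' * IB I B' := Ideal.mul_mem_mul hx hy
  rw [← Ideal.map_mul, h1, Ideal.map_bot] at h2
  exact (Ideal.mem_bot).1 h2

theorem sqZ_piI (hI : ∀ x ∈ I, ∀ y ∈ I, x * y = 0) (B' : Type u) [CommRing B'] [Algebra A B'] :
    SqZ (piI I B') where
  surj := Ideal.Quotient.mkₐ_surjective A _
  sq := fun x y hx hy => sq_zero_IB I hI B' x ((mem_ker_piI I x).1 ((RingHom.mem_ker).2 hx)) y
    ((mem_ker_piI I y).1 ((RingHom.mem_ker).2 hy))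

theorem map_mem_IB {B' B'' : Type u} [CommRing B'] [Algebra A B'] [CommRing B''] [Algebra A B'']
    (g : B' →ₐ[A] B'') {x : B'} (hx : x ∈ IB I B') : g x ∈ IB I B'' := by
  have h := Ideal.mem_map_of_mem (g : B' →+* B'') hx
  rw [Ideal.map_map, AlgHom.comp_algebraMap] at h
  exact h

theorem ker_map {B' B'' : Type u} [CommRing B'] [Algebra A B'] [CommRing B''] [Algebra A B'']
    (g : B' →ₐ[A] B'') : ∀ y ∈ RingHom.ker (piI I B'), g y ∈ RingHom.ker (piI I B'') :=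
  fun y hy => (mem_ker_piI I _).2 (map_mem_IB I g ((mem_ker_piI I y).1 hy))

/-- The map induced on quotients by `I`. -/
noncomputable def qMap {B' B'' : Type u} [CommRing B'] [Algebra A B'] [CommRing B'']
    [Algebra A B''] (g : B' →ₐ[A] B'') : B' ⧸ IB I B' →ₐ[A] B'' ⧸ IB I B'' :=
  Ideal.quotientMapₐ (IB I B'') g (fun x hx => map_mem_IB I g hx)

theorem qMap_comp_piI {B' B'' : Type u} [CommRing B'] [Algebra A B'] [CommRing B'']
    [Algebra A B''] (g : B' →ₐ[A] B'') :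
    (qMap I g).comp (piI I B') = (piI I B'').comp g := by
  ext x
  rfl

/-- The canonical map `A / I → B' / I B'`. -/
noncomputable def qA (B' : Type u) [CommRing B'] [Algebra A B'] : A ⧸ I →ₐ[A] B' ⧸ IB I B' :=
  Ideal.quotientMapₐ (IB I B') (Algebra.ofId A B') (fun x hx => Ideal.mem_map_of_mem _ hx)

theorem qA_comp_mk (B' : Type u) [CommRing B'] [Algebra A B'] :
    (qA I B').comp (Ideal.Quotient.mkₐ A I) = (piI I B').comp (Algebra.ofId A B') := by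
  ext

theorem qMap_comp_qA {B' B'' : Type u} [CommRing B'] [Algebra A B'] [CommRing B'']
    [Algebra A B''] (g : B' →ₐ[A] B'') : (qMap I g).comp (qA I B') = qA I B'' := by
  apply Ideal.Quotient.algHom_ext
  ext

end Quot

section Maps

variable (A : Type u) [CommRing A] (B : Type u) [CommRing B] [Algebra A B]

/-- `b ↦ b ⊗ 1`. -/
noncomputable abbrev e1 : B →ₐ[A] B ⊗[A] B := Algebra.TensorProduct.includeLeft
/-- `b ↦ 1 ⊗ b`. -/
noncomputable abbrev e2 : B →ₐ[A] B ⊗[A] B := Algebra.TensorProduct.includeRight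
/-- `z ↦ 1 ⊗ z`. -/
noncomputable abbrev d0 : B ⊗[A] B →ₐ[A] B ⊗[A] (B ⊗[A] B) :=
  Algebra.TensorProduct.includeRight
/-- `a ⊗ b ↦ a ⊗ (1 ⊗ b)`. -/
noncomputable def d1 : B ⊗[A] B →ₐ[A] B ⊗[A] (B ⊗[A] B) :=
  Algebra.TensorProduct.map (AlgHom.id A B) (e2 A B)
/-- `a ⊗ b ↦ a ⊗ (b ⊗ 1)`. -/
noncomputable def d2 : B ⊗[A] B →ₐ[A] B ⊗[A] (B ⊗[A] B) :=
  Algebra.TensorProduct.map (AlgHom.id A B) (e1 A B)

@[simp] theorem d1_tmul (a b : B) : d1 A B (a ⊗ₜ b) = a ⊗ₜ[A] ((1 : B) ⊗ₜ[A] b) := by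
  simp [d1]

@[simp] theorem d2_tmul (a b : B) : d2 A B (a ⊗ₜ b) = a ⊗ₜ[A] (b ⊗ₜ[A] (1 : B)) := by
  simp [d2]

theorem d0_e1 : (d0 A B).comp (e1 A B) = (d2 A B).comp (e2 A B) := by
  ext b
  simp

theorem d0_e2 : (d0 A B).comp (e2 A B) = (d1 A B).comp (e2 A B) := by
  ext b
  simp

theorem d1_e1 : (d1 A B).comp (e1 A B) = (d2 A B).comp (e1 A B) := by
  ext b
  simp [Algebra.TensorProduct.one_def]

end Maps

section Steps

variable {A : Type u} [CommRing A] {F : AFun.{u, w} A} {C : Type u} [CommRing C] [Algebra A C]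
  {c : F.obj C}

theorem tr_congr' {B' Bb : Type u} [CommRing B'] [Algebra A B'] [CommRing Bb] [Algebra A Bb]
    {π : B' →ₐ[A] Bb} (hFE : FE F c) (hπ : SqZ π) (ub : C →ₐ[A] Bb) (v v' : C →ₐ[A] B')
    (hv : v = v') (h : F.map (π.comp v) c = F.map ub c) :
    tr hFE hπ ub v h = tr hFE hπ ub v' (hv ▸ h) := by
  subst hv
  rfl

theorem final_step {B' Bb : Type u} [CommRing B'] [Algebra A B'] [CommRing Bb] [Algebra A Bb]
    {π : B' →ₐ[A] Bb} (hFE : FE F c) (hπ : SqZ π) (u₁ u₂ : C →ₐ[A] B')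
    (hc : F.map (π.comp u₁) c = F.map (π.comp u₂) c) (m₁ : ↥(Der u₁ (RingHom.ker π)))
    (m₂ : ↥(Der u₂ (RingHom.ker π)))
    (h : ∀ x, m₂.1 x - (theta hFE hπ u₂ u₁ hc m₁).1 x =
      tr hFE hπ (π.comp u₂) u₁ hc x - u₂ x) :
    F.map (addDer u₁ hπ.ker_sq m₁) c = F.map (addDer u₂ hπ.ker_sq m₂) c := by
  have e : tr hFE hπ (π.comp u₂) (addDer u₁ hπ.ker_sq m₁) (compat_addDer hπ u₂ u₁ hc m₁) =
      addDer u₂ hπ.ker_sq m₂ := by
    ext x
    have h1 := theta_apply hFE hπ u₂ u₁ hc m₁ x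
    have h2 := h x
    rw [addDer_apply]
    linear_combination (-1 : B') * h1 - h2
  rw [← e, tr_map]

theorem cocycle (hFE : FE F c) {B₂ Bb₂ B₃ Bb₃ : Type u} [CommRing B₂] [Algebra A B₂]
    [CommRing Bb₂] [Algebra A Bb₂] [CommRing B₃] [Algebra A B₃] [CommRing Bb₃] [Algebra A Bb₃]
    {π₂ : B₂ →ₐ[A] Bb₂} {π₃ : B₃ →ₐ[A] Bb₃} (hπ₂ : SqZ π₂) (hπ₃ : SqZ π₃)
    (δ₀ δ₁ δ₂ : B₂ →ₐ[A] B₃) (g₀ g₁ g₂ : Bb₂ →ₐ[A] Bb₃)
    (hg₀ : g₀.comp π₂ = π₃.comp δ₀) (hg₁ : g₁.comp π₂ = π₃.comp δ₁)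
    (hg₂ : g₂.comp π₂ = π₃.comp δ₂) (u₁ u₂ : C →ₐ[A] B₂)
    (h01 : δ₀.comp u₁ = δ₂.comp u₂) (h02 : δ₀.comp u₂ = δ₁.comp u₂)
    (h11 : δ₁.comp u₁ = δ₂.comp u₁)
    (hc : F.map (π₂.comp u₁) c = F.map (π₂.comp u₂) c)
    (hc₃ : F.map (π₃.comp (δ₂.comp u₂)) c = F.map (π₃.comp (δ₀.comp u₂)) c)
    (hc₃' : F.map (π₃.comp (δ₂.comp u₁)) c = F.map (π₃.comp (δ₀.comp u₂)) c)
    (hδ₂ : ∀ y ∈ RingHom.ker π₂, δ₂ y ∈ RingHom.ker π₃)
    (D : ↥(Der u₂ (RingHom.ker π₂)))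
    (hD : ∀ x, D.1 x = tr hFE hπ₂ (π₂.comp u₂) u₁ hc x - u₂ x) (x : C) :
    δ₁ (D.1 x) -
      (theta hFE hπ₃ (δ₀.comp u₂) (δ₂.comp u₂) hc₃ (mapDer δ₂ hδ₂ D)).1 x = δ₀ (D.1 x) := by
  have hadd : addDer (δ₂.comp u₂) hπ₃.ker_sq (mapDer δ₂ hδ₂ D) =
      δ₂.comp (tr hFE hπ₂ (π₂.comp u₂) u₁ hc) := by
    ext y
    rw [addDer_apply, mapDer_apply, hD]
    show δ₂ (u₂ y) + δ₂ (tr hFE hπ₂ (π₂.comp u₂) u₁ hc y - u₂ y) =
      δ₂ (tr hFE hπ₂ (π₂.comp u₂) u₁ hc y)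
    rw [← map_add]
    congr 1
    ring
  have hub₂ : π₃.comp (δ₂.comp u₂) = g₂.comp (π₂.comp u₂) := by
    rw [← AlgHom.comp_assoc, ← hg₂, AlgHom.comp_assoc]
  have hub₁ : π₃.comp (δ₀.comp u₂) = g₁.comp (π₂.comp u₂) := by
    rw [h02, ← AlgHom.comp_assoc, ← hg₁, AlgHom.comp_assoc]
  have hub₀ : π₃.comp (δ₀.comp u₂) = g₀.comp (π₂.comp u₂) := by
    rw [← AlgHom.comp_assoc, ← hg₀, AlgHom.comp_assoc]
  have h22 : F.map (π₃.comp (δ₂.comp u₁)) c = F.map (π₃.comp (δ₂.comp u₂)) c :=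
    hc₃'.trans hc₃.symm
  have h11' : F.map (π₃.comp (δ₁.comp u₁)) c = F.map (π₃.comp (δ₀.comp u₂)) c := by
    rw [h11]
    exact hc₃'
  have h01' : F.map (π₃.comp (δ₀.comp u₁)) c = F.map (π₃.comp (δ₀.comp u₂)) c := by
    rw [h01]
    exact hc₃
  have n2 := tr_natural hFE hπ₂ hπ₃ δ₂ g₂ hg₂ (π₂.comp u₂) u₁ hc (π₃.comp (δ₂.comp u₂)) hub₂ h22
  have n1 := tr_natural hFE hπ₂ hπ₃ δ₁ g₁ hg₁ (π₂.comp u₂) u₁ hc (π₃.comp (δ₀.comp u₂)) hub₁ h11'
  have n0 := tr_natural hFE hπ₂ hπ₃ δ₀ g₀ hg₀ (π₂.comp u₂) u₁ hc (π₃.comp (δ₀.comp u₂)) hub₀ h01'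
  have E1 : tr hFE hπ₃ (π₃.comp (δ₀.comp u₂))
      (addDer (δ₂.comp u₂) hπ₃.ker_sq (mapDer δ₂ hδ₂ D))
      (compat_addDer hπ₃ (δ₀.comp u₂) (δ₂.comp u₂) hc₃ (mapDer δ₂ hδ₂ D)) =
      δ₁.comp (tr hFE hπ₂ (π₂.comp u₂) u₁ hc) := by
    rw [tr_congr' hFE hπ₃ _ _ _ hadd, tr_congr' hFE hπ₃ _ _ _ n2,
      tr_trans hFE hπ₃ _ _ _ _ _ hc₃', tr_congr' hFE hπ₃ _ _ _ h11.symm, n1]
  have E2 : tr hFE hπ₃ (π₃.comp (δ₀.comp u₂)) (δ₂.comp u₂) hc₃ =
      δ₀.comp (tr hFE hπ₂ (π₂.comp u₂) u₁ hc) := by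
    rw [tr_congr' hFE hπ₃ _ _ _ h01.symm, n0]
  rw [theta_apply, E1, E2, hD]
  have e02 : δ₁ (u₂ x) = δ₀ (u₂ x) := (congrArg (fun t : C →ₐ[A] B₃ => t x) h02).symm
  show δ₁ (tr hFE hπ₂ (π₂.comp u₂) u₁ hc x - u₂ x) -
    (δ₁ (tr hFE hπ₂ (π₂.comp u₂) u₁ hc x) - δ₀ (tr hFE hπ₂ (π₂.comp u₂) u₁ hc x)) =
    δ₀ (tr hFE hπ₂ (π₂.comp u₂) u₁ hc x - u₂ x)
  rw [map_sub, map_sub, e02]
  ring

end Steps

section Descent

variable {A : Type u} [CommRing A] (I : Ideal A) (hI : ∀ x ∈ I, ∀ y ∈ I, x * y = 0)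
  {F : AFun.{u, w} A} {C : Type u} [CommRing C] [Algebra A C] {c : F.obj C} (hFE : FE F c)
  (B : Type u) [CommRing B] [Algebra A B] (ut : C →ₐ[A] B)

/-- The Amitsur-type differential `m ↦ e₂ ∘ m - θ (e₁ ∘ m)`. -/
noncomputable def phi
    (hc₂ : F.map ((piI I (B ⊗[A] B)).comp ((e1 A B).comp ut)) c =
      F.map ((piI I (B ⊗[A] B)).comp ((e2 A B).comp ut)) c) :
    ↥(Der ut (RingHom.ker (piI I B))) →ₗ[A]
      ↥(Der ((e2 A B).comp ut) (RingHom.ker (piI I (B ⊗[A] B)))) where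
  toFun m := ⟨(mapDerL (e2 A B) (ker_map I (e2 A B)) ut m).1 -
    (theta hFE (sqZ_piI I hI (B ⊗[A] B)) ((e2 A B).comp ut) ((e1 A B).comp ut) hc₂
      (mapDerL (e1 A B) (ker_map I (e1 A B)) ut m)).1,
    Submodule.sub_mem _ (Subtype.property _) (Subtype.property _)⟩
  map_add' m m' := by
    apply Subtype.ext
    apply LinearMap.ext
    intro x
    rw [map_add, map_add, map_add]
    simp only [Submodule.coe_add, LinearMap.sub_apply, LinearMap.add_apply]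
    abel
  map_smul' a m := by
    apply Subtype.ext
    apply LinearMap.ext
    intro x
    rw [map_smul, map_smul, map_smul, RingHom.id_apply]
    simp only [Submodule.coe_smul, LinearMap.sub_apply, LinearMap.smul_apply]
    rw [smul_sub]

theorem phi_apply
    (hc₂ : F.map ((piI I (B ⊗[A] B)).comp ((e1 A B).comp ut)) c =
      F.map ((piI I (B ⊗[A] B)).comp ((e2 A B).comp ut)) c)
    (m : ↥(Der ut (RingHom.ker (piI I B)))) (x : C) :
    (phi I hI hFE B ut hc₂ m).1 x = (1 : B) ⊗ₜ[A] m.1 x -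
      (theta hFE (sqZ_piI I hI (B ⊗[A] B)) ((e2 A B).comp ut) ((e1 A B).comp ut) hc₂
        (mapDer (e1 A B) (ker_map I (e1 A B)) m)).1 x := rfl

theorem hNN_ker : ∀ (b : B) (n : B), n ∈ RingHom.ker (piI I B) →
    b ⊗ₜ[A] n ∈ RingHom.ker (piI I (B ⊗[A] B)) := fun b n hn =>
  (mem_ker_piI I _).2 (tmul_mem_map_of_mem B I b n ((mem_ker_piI I n).1 hn))

theorem star_identity
    (hc₂ : F.map ((piI I (B ⊗[A] B)).comp ((e1 A B).comp ut)) c =
      F.map ((piI I (B ⊗[A] B)).comp ((e2 A B).comp ut)) c)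
    (hc₃ : F.map ((piI I (B ⊗[A] (B ⊗[A] B))).comp ((d2 A B).comp ((e2 A B).comp ut))) c =
      F.map ((piI I (B ⊗[A] (B ⊗[A] B))).comp ((d0 A B).comp ((e2 A B).comp ut))) c)
    (hc₃'' : F.map ((piI I (B ⊗[A] (B ⊗[A] B))).comp ((d0 A B).comp ((e1 A B).comp ut))) c =
      F.map ((piI I (B ⊗[A] (B ⊗[A] B))).comp ((d0 A B).comp ((e2 A B).comp ut))) c)
    (y : B ⊗[A] ↥(Der ut (RingHom.ker (piI I B)))) (x : C) :
    kappa B ((e2 A B).comp ut) (RingHom.ker (piI I (B ⊗[A] B)))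
        ((phi I hI hFE B ut hc₂).lTensor B y) x =
      d1 A B ((kappaD B ut (RingHom.ker (piI I B)) (RingHom.ker (piI I (B ⊗[A] B)))
          (hNN_ker I B) y).1 x) -
        (theta hFE (sqZ_piI I hI (B ⊗[A] (B ⊗[A] B))) ((d0 A B).comp ((e2 A B).comp ut))
          ((d2 A B).comp ((e2 A B).comp ut)) hc₃
          (mapDerL (d2 A B) (ker_map I (d2 A B)) ((e2 A B).comp ut)
            (kappaD B ut (RingHom.ker (piI I B)) (RingHom.ker (piI I (B ⊗[A] B)))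
              (hNN_ker I B) y))).1 x := by
  induction y using TensorProduct.induction_on with
  | zero =>
    simp only [map_zero, LinearMap.zero_apply, Submodule.coe_zero, sub_zero]
  | add y y' hy hy' =>
    simp only [map_add, LinearMap.add_apply, Submodule.coe_add]
    rw [hy, hy']
    ring
  | tmul b m =>
    have h₂₀ : (d0 A B).comp ((e1 A B).comp ut) = (d2 A B).comp ((e2 A B).comp ut) := by
      rw [← AlgHom.comp_assoc, d0_e1, AlgHom.comp_assoc]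
    have hk : mapDerL (d2 A B) (ker_map I (d2 A B)) ((e2 A B).comp ut)
        (kappaD B ut (RingHom.ker (piI I B)) (RingHom.ker (piI I (B ⊗[A] B)))
          (hNN_ker I B) (b ⊗ₜ m)) =
        Der.bsmul (b ⊗ₜ[A] (1 : B ⊗[A] B)) (Der.castEq h₂₀
          (mapDer (d0 A B) (ker_map I (d0 A B)) (mapDer (e1 A B) (ker_map I (e1 A B)) m))) := by
      apply Subtype.ext
      apply LinearMap.ext
      intro z
      rw [mapDerL_apply, kappaD_tmul, d2_tmul, Der.bsmul_apply, Der.castEq_apply, mapDer_apply,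
        mapDer_apply]
      show b ⊗ₜ[A] (m.1 z ⊗ₜ[A] (1 : B)) =
        b ⊗ₜ[A] (1 : B ⊗[A] B) * (1 : B) ⊗ₜ[A] (m.1 z ⊗ₜ[A] (1 : B))
      rw [Algebra.TensorProduct.tmul_mul_tmul, mul_one, one_mul]
    have hnat := theta_natural hFE (sqZ_piI I hI (B ⊗[A] B)) (sqZ_piI I hI (B ⊗[A] (B ⊗[A] B)))
      (d0 A B) (qMap I (d0 A B)) (qMap_comp_piI I (d0 A B)) ((e2 A B).comp ut) ((e1 A B).comp ut)
      hc₂ hc₃'' (ker_map I (d0 A B)) (mapDer (e1 A B) (ker_map I (e1 A B)) m) x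
    rw [LinearMap.lTensor_tmul, kappa_tmul, phi_apply, kappaD_tmul, d1_tmul, hk, theta_bsmul,
      Der.bsmul_apply, theta_castEq hFE _ _ _ _ h₂₀ hc₃'', ← hnat]
    show b ⊗ₜ[A] ((1 : B) ⊗ₜ[A] m.1 x - _) =
      b ⊗ₜ[A] ((1 : B) ⊗ₜ[A] m.1 x) - b ⊗ₜ[A] (1 : B ⊗[A] B) * (1 : B) ⊗ₜ[A] _
    rw [Algebra.TensorProduct.tmul_mul_tmul, mul_one, one_mul, TensorProduct.tmul_sub]

end Descent

section Main

variable {A : Type u} [CommRing A] (I : Ideal A)

theorem base_pt (F : AFun.{u, w} A) {C : Type u} [CommRing C] [Algebra A C] (c : F.obj C)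
    {B : Type u} [CommRing B] [Algebra A B] (ut : C →ₐ[A] B) (s : F.obj (A ⧸ I))
    (hs : F.map (piI I B) (F.map ut c) = F.map (qA I B) s)
    {B' : Type u} [CommRing B'] [Algebra A B'] (h : B →ₐ[A] B') :
    F.map ((piI I B').comp (h.comp ut)) c = F.map (qA I B') s := by
  have e : (piI I B').comp (h.comp ut) = (qMap I h).comp ((piI I B).comp ut) := by
    rw [← AlgHom.comp_assoc, ← AlgHom.comp_assoc, qMap_comp_piI]
  rw [e, F.map_comp, F.map_comp, hs, ← F.map_comp, qMap_comp_qA]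

theorem base_pt' (F : AFun.{u, w} A) {C : Type u} [CommRing C] [Algebra A C] (c : F.obj C)
    {B : Type u} [CommRing B] [Algebra A B] (ut : C →ₐ[A] B) (s : F.obj (A ⧸ I))
    (hs : F.map (piI I B) (F.map ut c) = F.map (qA I B) s)
    {B' B'' : Type u} [CommRing B'] [Algebra A B'] [CommRing B''] [Algebra A B'']
    (h : B →ₐ[A] B') (g : B' →ₐ[A] B'') :
    F.map ((piI I B'').comp (g.comp (h.comp ut))) c = F.map (qA I B'') s := by
  rw [← AlgHom.comp_assoc g h ut]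
  exact base_pt I F c ut s hs (g.comp h)

end Main

end Groth.Agent.Helper2.FDesc
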