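import Mathlib
import Groth.Agent.Lib.Helper2.FDesc.Alg3

/-!
# Descent of lifts along a faithfully flat cover: the main theorem (helper2)
-/

set_option autoImplicit false
set_option synthInstance.maxHeartbeats 400000
set_option maxHeartbeats 2000000
set_option linter.style.haveILetI false
set_option linter.unusedSectionVars false
set_option linter.unusedVariables false
set_option linter.unusedSimpArgs false
set_option linter.unnecessarySimpa false

universe u w

open TensorProduct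

namespace Groth.Agent.Helper2.FDesc

section Main2

variable {A : Type u} [CommRing A] (I : Ideal A)

theorem kappa_injective' {C : Type u} [CommRing C] [Algebra A C] (B : Type u) [CommRing B]
    [Algebra A B] {B' : Type u} [CommRing B'] [Algebra A B'] [Module.Flat A B]
    [Algebra.FiniteType A C] (u : C →ₐ[A] B') (N : Ideal B') (y y' : B ⊗[A] ↥(Der u N))
    (h : ∀ x, kappa B u N y x = kappa B u N y' x) : y = y' := by
  have h0 : kappa B u N (y - y') = 0 := by
    apply LinearMap.ext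
    intro x
    rw [map_sub, LinearMap.sub_apply, h x, sub_self, LinearMap.zero_apply]
  exact sub_eq_zero.1 (kappa_injective B u N (y - y') h0)

theorem hN₂_ker (B : Type u) [CommRing B] [Algebra A B] :
    ∀ z ∈ RingHom.ker (piI I (B ⊗[A] B)),
      z ∈ LinearMap.range (((RingHom.ker (piI I B)).restrictScalars A).subtype.lTensor B) := by
  intro z hz
  refine mem_range_lTensor_of_mem_map B I (RingHom.ker (piI I B)) (fun r hr b' => ?_) z
    ((mem_ker_piI I z).1 hz)
  rw [mem_ker_piI, Algebra.smul_def]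
  exact Ideal.mul_mem_right _ _ (Ideal.mem_map_of_mem _ hr)

/-- **Descent of lifts.**  If `s ∈ F(A/I)` lifts through a formally étale smooth chart after a
faithfully flat base change for which `F` is a sheaf, then `s` lifts to `F(A)`. -/
theorem exists_descent (hI : ∀ x ∈ I, ∀ y ∈ I, x * y = 0) (F : AFun.{u, w} A)
    {C : Type u} [CommRing C] [Algebra A C] [Algebra.Smooth A C] (c : F.obj C) (hFE : FE F c)
    (B : Type u) [CommRing B] [Algebra A B] [Module.FaithfullyFlat A B]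
    (hSh1 : ∀ ℓ : F.obj B, F.map (e1 A B) ℓ = F.map (e2 A B) ℓ →
      ∃ ℓA : F.obj A, F.map (Algebra.ofId A B) ℓA = ℓ)
    (hSh2 : Function.Injective (F.map (qA I B)))
    (s : F.obj (A ⧸ I)) (ut : C →ₐ[A] B)
    (hs : F.map (piI I B) (F.map ut c) = F.map (qA I B) s) :
    ∃ ℓA : F.obj A, F.map (Ideal.Quotient.mkₐ A I) ℓA = s := by
  have hπ₁ := sqZ_piI I hI B
  have hπ₂ := sqZ_piI I hI (B ⊗[A] B)
  have hπ₃ := sqZ_piI I hI (B ⊗[A] (B ⊗[A] B))
  have hc₂ : F.map ((piI I (B ⊗[A] B)).comp ((e1 A B).comp ut)) c =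
      F.map ((piI I (B ⊗[A] B)).comp ((e2 A B).comp ut)) c :=
    (base_pt I F c ut s hs (e1 A B)).trans (base_pt I F c ut s hs (e2 A B)).symm
  have hc₃ : F.map ((piI I (B ⊗[A] (B ⊗[A] B))).comp ((d2 A B).comp ((e2 A B).comp ut))) c =
      F.map ((piI I (B ⊗[A] (B ⊗[A] B))).comp ((d0 A B).comp ((e2 A B).comp ut))) c :=
    (base_pt' I F c ut s hs (e2 A B) (d2 A B)).trans
      (base_pt' I F c ut s hs (e2 A B) (d0 A B)).symm
  have hc₃' : F.map ((piI I (B ⊗[A] (B ⊗[A] B))).comp ((d2 A B).comp ((e1 A B).comp ut))) c =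
      F.map ((piI I (B ⊗[A] (B ⊗[A] B))).comp ((d0 A B).comp ((e2 A B).comp ut))) c :=
    (base_pt' I F c ut s hs (e1 A B) (d2 A B)).trans
      (base_pt' I F c ut s hs (e2 A B) (d0 A B)).symm
  have hc₃'' : F.map ((piI I (B ⊗[A] (B ⊗[A] B))).comp ((d0 A B).comp ((e1 A B).comp ut))) c =
      F.map ((piI I (B ⊗[A] (B ⊗[A] B))).comp ((d0 A B).comp ((e2 A B).comp ut))) c :=
    (base_pt' I F c ut s hs (e1 A B) (d0 A B)).trans
      (base_pt' I F c ut s hs (e2 A B) (d0 A B)).symm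
  obtain ⟨D, hD⟩ : ∃ D : ↥(Der ((e2 A B).comp ut) (RingHom.ker (piI I (B ⊗[A] B)))),
      ∀ x, D.1 x = tr hFE hπ₂ ((piI I (B ⊗[A] B)).comp ((e2 A B).comp ut))
        ((e1 A B).comp ut) hc₂ x - ((e2 A B).comp ut) x :=
    ⟨subDer ((e2 A B).comp ut)
      (tr hFE hπ₂ ((piI I (B ⊗[A] B)).comp ((e2 A B).comp ut)) ((e1 A B).comp ut) hc₂)
      ((e2 A B).comp ut) hπ₂.ker_sq
      (tr_sub_mem hFE hπ₂ ((e2 A B).comp ut) ((e1 A B).comp ut) hc₂)
      (fun x => by rw [sub_self]; exact Ideal.zero_mem _), fun x => rfl⟩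
  obtain ⟨y, hy⟩ := kappaD_surjective B ut (RingHom.ker (piI I B))
    (RingHom.ker (piI I (B ⊗[A] B))) (hNN_ker I B) (hN₂_ker I B) D
  have hkey : (phi I hI hFE B ut hc₂).lTensor B y = (1 : B) ⊗ₜ[A] D := by
    apply kappa_injective' B ((e2 A B).comp ut) (RingHom.ker (piI I (B ⊗[A] B)))
    intro x
    have hstar := star_identity I hI hFE B ut hc₂ hc₃ hc₃'' y x
    rw [hy] at hstar
    have hcoc := cocycle hFE hπ₂ hπ₃ (d0 A B) (d1 A B) (d2 A B) (qMap I (d0 A B))
      (qMap I (d1 A B)) (qMap I (d2 A B)) (qMap_comp_piI I (d0 A B)) (qMap_comp_piI I (d1 A B))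
      (qMap_comp_piI I (d2 A B)) ((e1 A B).comp ut) ((e2 A B).comp ut)
      (by rw [← AlgHom.comp_assoc, d0_e1, AlgHom.comp_assoc])
      (by rw [← AlgHom.comp_assoc, d0_e2, AlgHom.comp_assoc])
      (by rw [← AlgHom.comp_assoc, d1_e1, AlgHom.comp_assoc])
      hc₂ hc₃ hc₃' (ker_map I (d2 A B)) D hD x
    rw [kappa_tmul]
    exact hstar.trans hcoc
  obtain ⟨m, hm⟩ := @exists_preimage_of_lTensor A _ _ _ (Submodule.addCommGroup _)
    (Submodule.module _) (Submodule.addCommGroup _) (Submodule.module _) B _ _ _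
    (phi I hI hFE B ut hc₂) D y hkey
  have hfin := final_step hFE hπ₂ ((e1 A B).comp ut) ((e2 A B).comp ut) hc₂
    (mapDer (e1 A B) (ker_map I (e1 A B)) m) (mapDer (e2 A B) (ker_map I (e2 A B)) m)
    (fun x => by
      have h1 := phi_apply I hI hFE B ut hc₂ m x
      rw [hm, hD] at h1
      exact h1.symm)
  have he1 : (e1 A B).comp (addDer ut hπ₁.ker_sq m) =
      addDer ((e1 A B).comp ut) hπ₂.ker_sq (mapDer (e1 A B) (ker_map I (e1 A B)) m) := by
    ext x
    rw [AlgHom.comp_apply, addDer_apply, addDer_apply, mapDer_apply, map_add, AlgHom.comp_apply]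
  have he2 : (e2 A B).comp (addDer ut hπ₁.ker_sq m) =
      addDer ((e2 A B).comp ut) hπ₂.ker_sq (mapDer (e2 A B) (ker_map I (e2 A B)) m) := by
    ext x
    rw [AlgHom.comp_apply, addDer_apply, addDer_apply, mapDer_apply, map_add, AlgHom.comp_apply]
  obtain ⟨ℓA, hℓA⟩ := hSh1 (F.map (addDer ut hπ₁.ker_sq m) c) (by
    rw [← F.map_comp, ← F.map_comp, he1, he2]
    exact hfin)
  refine ⟨ℓA, hSh2 ?_⟩
  rw [← F.map_comp, qA_comp_mk, F.map_comp, hℓA, ← F.map_comp, pi_addDer hπ₁ ut m, F.map_comp]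
  exact hs

end Main2

end Groth.Agent.Helper2.FDesc
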