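import Mathlib
import Groth.Prelude.Def_AlgSpInf
import Groth.Agent.Lib.Helper2.FDesc.Alg4
import Groth.Agent.Lib.Helper2.AlgSp.FormalEtaleChar
import Groth.Agent.Lib.Helper2.SmLift.SpLift

/-!
# The functor of lifts of a morphism of sheaves over an affine base (helper2)

For `f : X ⟶ h_{Spec A}` we consider the functor on `A`-algebras `B' ↦ {l : h_{Spec B'} ⟶ X over
Spec A}`.  Representable étale charts are formally étale charts in the sense of `FDesc.FE`, and
the functor satisfies the sheaf conditions needed for `FDesc.exists_descent`.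
-/

set_option autoImplicit false
set_option backward.isDefEq.respectTransparency.types false
set_option synthInstance.maxHeartbeats 400000
set_option maxHeartbeats 4000000
set_option linter.style.haveILetI false
set_option linter.unusedSectionVars false
set_option linter.unusedVariables false
set_option linter.unusedSimpArgs false
set_option linter.unnecessarySimpa false

universe u

open CategoryTheory CategoryTheory.Limits AlgebraicGeometry Opposite AlgSp TensorProduct
open Groth.Agent.Helper2.AlgSpBasic Groth.Agent.Helper2.AlgSpFormal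
open Groth.Agent.Helper2.FormalLib
open Groth.Agent.Helper2.SmLift.SpLift

namespace Groth.Agent.Helper2.FDesc

variable {S : Scheme.{u}} {A : Type u} [CommRing A] (str : Spec (CommRingCat.of A) ⟶ S)

section Pm

/-- `Spec B'` over `S`, for an `A`-algebra `B'`. -/
noncomputable abbrev pA (B' : Type u) [CommRing B'] [Algebra A B'] : Over S :=
  Over.mk (Spec.map (CommRingCat.ofHom (algebraMap A B')) ≫ str)

/-- `Spec B' ⟶ Spec A` over `S`. -/
noncomputable abbrev gA (B' : Type u) [CommRing B'] [Algebra A B'] : pA str B' ⟶ pT' str :=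
  Over.homMk (Spec.map (CommRingCat.ofHom (algebraMap A B'))) rfl

variable {B' B'' B''' : Type u} [CommRing B'] [Algebra A B'] [CommRing B''] [Algebra A B'']
  [CommRing B'''] [Algebra A B''']

theorem toRingHom_comp_algebraMap (g : B' →ₐ[A] B'') :
    g.toRingHom.comp (algebraMap A B') = algebraMap A B'' :=
  RingHom.ext fun a => g.commutes a

theorem pm_w (g : B' →ₐ[A] B'') :
    Spec.map (CommRingCat.ofHom g.toRingHom) ≫ (pA str B').hom = (pA str B'').hom := by
  show Spec.map (CommRingCat.ofHom g.toRingHom) ≫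
      Spec.map (CommRingCat.ofHom (algebraMap A B')) ≫ str =
    Spec.map (CommRingCat.ofHom (algebraMap A B'')) ≫ str
  rw [← Category.assoc, ← Spec.map_comp, ← CommRingCat.ofHom_comp, toRingHom_comp_algebraMap]

/-- `Spec` of an `A`-algebra map, over `S`. -/
noncomputable def pm (g : B' →ₐ[A] B'') : pA str B'' ⟶ pA str B' :=
  Over.homMk (Spec.map (CommRingCat.ofHom g.toRingHom)) (pm_w str g)

theorem pm_left (g : B' →ₐ[A] B'') :
    (pm str g).left = Spec.map (CommRingCat.ofHom g.toRingHom) := rfl

theorem pm_comp (g : B' →ₐ[A] B'') (g' : B'' →ₐ[A] B''') :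
    pm str (g'.comp g) = pm str g' ≫ pm str g := by
  apply Over.OverMorphism.ext
  show Spec.map (CommRingCat.ofHom (g'.comp g).toRingHom) =
    Spec.map (CommRingCat.ofHom g'.toRingHom) ≫ Spec.map (CommRingCat.ofHom g.toRingHom)
  exact Spec.map_comp (CommRingCat.ofHom g.toRingHom) (CommRingCat.ofHom g'.toRingHom)

theorem pm_id : pm str (AlgHom.id A B') = 𝟙 (pA str B') := by
  apply Over.OverMorphism.ext
  show Spec.map (CommRingCat.ofHom (AlgHom.id A B').toRingHom) = 𝟙 _
  exact Spec.map_id _

theorem pm_gA (g : B' →ₐ[A] B'') : pm str g ≫ gA str B' = gA str B'' := by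
  apply Over.OverMorphism.ext
  show Spec.map (CommRingCat.ofHom g.toRingHom) ≫
      Spec.map (CommRingCat.ofHom (algebraMap A B')) =
    Spec.map (CommRingCat.ofHom (algebraMap A B''))
  rw [← Spec.map_comp, ← CommRingCat.ofHom_comp, toRingHom_comp_algebraMap]

theorem pm_injective {g g' : B' →ₐ[A] B''} (h : pm str g = pm str g') : g = g' := by
  have h1 : Spec.map (CommRingCat.ofHom g.toRingHom) =
      Spec.map (CommRingCat.ofHom g'.toRingHom) := congrArg (fun t => t.left) h
  have h2 := Spec.map_injective h1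
  have h3 : g.toRingHom = g'.toRingHom := congrArg CommRingCat.Hom.hom h2
  exact AlgHom.ext fun x => RingHom.congr_fun h3 x

theorem exists_pm (μ : pA str B'' ⟶ pA str B') (hμ : μ ≫ gA str B' = gA str B'') :
    ∃ u : B' →ₐ[A] B'', pm str u = μ := by
  obtain ⟨φc, hφc⟩ : ∃ φc : CommRingCat.of B' ⟶ CommRingCat.of B'', Spec.map φc = μ.left :=
    ⟨Spec.preimage μ.left, Spec.map_preimage _⟩
  have h1 : Spec.map (CommRingCat.ofHom (algebraMap A B') ≫ φc) =
      Spec.map (CommRingCat.ofHom (algebraMap A B'')) := by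
    rw [Spec.map_comp, hφc]
    exact congrArg (fun t => t.left) hμ
  have h2 := Spec.map_injective h1
  refine ⟨{ toRingHom := φc.hom, commutes' := fun a => ?_ }, ?_⟩
  · exact congrArg (fun t : CommRingCat.of A ⟶ CommRingCat.of B'' => t.hom a) h2
  · apply Over.OverMorphism.ext
    exact hφc

end Pm

section LiftFun

variable {X : Sp S} (f : X ⟶ (yon S).obj (pT' str))

/-- The functor of lifts of `f` over `Spec A`. -/
noncomputable def liftFun : AFun.{u, u + 1} A where
  obj := fun B' _ _ => {l : (yon S).obj (pA str B') ⟶ X // l ≫ f = (yon S).map (gA str B')}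
  map := fun g l => ⟨(yon S).map (pm str g) ≫ l.1, by
    rw [Category.assoc, l.2, ← Functor.map_comp, pm_gA]⟩
  map_id := fun l => Subtype.ext (by
    show (yon S).map (pm str (AlgHom.id A _)) ≫ l.1 = l.1
    rw [pm_id, CategoryTheory.Functor.map_id, Category.id_comp])
  map_comp := fun g g' l => Subtype.ext (by
    show (yon S).map (pm str (g'.comp g)) ≫ l.1 =
      (yon S).map (pm str g') ≫ (yon S).map (pm str g) ≫ l.1
    rw [pm_comp, Functor.map_comp, Category.assoc])

theorem liftFun_map_val {B' B'' : Type u} [CommRing B'] [Algebra A B'] [CommRing B'']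
    [Algebra A B''] (g : B' →ₐ[A] B'') (l : (liftFun str f).obj B') :
    ((liftFun str f).map g l).1 = (yon S).map (pm str g) ≫ l.1 := rfl

/-- A representable étale chart is a formally étale chart. -/
theorem fe_of_repWith_etale {C : Type u} [CommRing C] [Algebra A C] (c : (liftFun str f).obj C)
    (hc : RepWith @Etale c.1) : FE (liftFun str f) c := by
  intro B' _ _ N hN ub l hl
  have hN2 : N ^ 2 = ⊥ := by
    rw [pow_two, eq_bot_iff, Ideal.mul_le]
    intro x hx y hy
    rw [hN x hx y hy]
    exact Ideal.zero_mem _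
  have h0 := isFOT_spec_quot N hN2 (Spec.map (CommRingCat.ofHom (algebraMap A B')) ≫ str)
  have ht : IsFOT (pm str (Ideal.Quotient.mkₐ A N)) := ⟨h0.ci, h0.surj, h0.sq⟩
  have hc2 : c.1 ≫ f = (yon S).map (gA str C) := c.2
  have hl2 : l.1 ≫ f = (yon S).map (gA str B') := l.2
  have comm : (yon S).map (pm str ub) ≫ c.1 =
      (yon S).map (pm str (Ideal.Quotient.mkₐ A N)) ≫ l.1 := (congrArg Subtype.val hl).symm
  obtain ⟨m, ⟨hm1, hm2⟩, hmu⟩ := ul_of_repWith_etale c.1 hc (pm str (Ideal.Quotient.mkₐ A N)) ht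
    ((yon S).map (pm str ub)) l.1 comm
  obtain ⟨μ, rfl⟩ := (yon S).map_surjective m
  have hμ : μ ≫ gA str C = gA str B' := (yon S).map_injective (by
    rw [Functor.map_comp, ← hc2, ← Category.assoc, hm2, hl2])
  obtain ⟨u, rfl⟩ := exists_pm str μ hμ
  refine ⟨u, ⟨?_, Subtype.ext hm2⟩, ?_⟩
  · apply pm_injective str
    rw [pm_comp]
    exact (yon S).map_injective (by rw [Functor.map_comp]; exact hm1)
  · rintro u' ⟨h1, h2⟩
    apply pm_injective str
    apply (yon S).map_injective
    apply hmu
    refine ⟨?_, congrArg Subtype.val h2⟩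
    rw [← Functor.map_comp, ← pm_comp, h1]

theorem isPullback_pm_tensor (B : Type u) [CommRing B] [Algebra A B] :
    IsPullback (pm str (e1 A B)) (pm str (e2 A B)) (pm str (Algebra.ofId A B))
      (pm str (Algebra.ofId A B)) :=
  over_isPullback_of_left _ _ _ _
    (isPullback_SpecMap_of_isPushout _ _ _ _ (CommRingCat.isPushout_tensorProduct A B B))

/-- First sheaf condition: descent of lifts along a flat lfp surjective `Spec B ⟶ Spec A`. -/
theorem sh1 {B : Type u} [CommRing B] [Algebra A B]
    (hfl : (@Flat ⊓ @LocallyOfFinitePresentation : MorphismProperty Scheme.{u})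
      (Spec.map (CommRingCat.ofHom (algebraMap A B))))
    (hsurj : Surjective (Spec.map (CommRingCat.ofHom (algebraMap A B))))
    (ℓ : (liftFun str f).obj B)
    (h : (liftFun str f).map (e1 A B) ℓ = (liftFun str f).map (e2 A B) ℓ) :
    ∃ ℓA : (liftFun str f).obj A, (liftFun str f).map (Algebra.ofId A B) ℓA = ℓ := by
  have hpb := isPullback_pm_tensor str B
  have h' : (yon S).map (pm str (e1 A B)) ≫ ℓ.1 = (yon S).map (pm str (e2 A B)) ≫ ℓ.1 :=
    congrArg Subtype.val h
  have hℓ2 : ℓ.1 ≫ f = (yon S).map (gA str B) := ℓ.2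
  have hp : ∀ i : Unit, (@Flat ⊓ @LocallyOfFinitePresentation : MorphismProperty Scheme.{u})
      ((fun _ : Unit => pm str (Algebra.ofId A B)) i).left := fun _ => hfl
  have hs : ∀ x : (pA str A).left,
      ∃ i : Unit, x ∈ Set.range ((fun _ : Unit => pm str (Algebra.ofId A B)) i).left :=
    fun x => ⟨(), hsurj.surj x⟩
  obtain ⟨l, hl⟩ := exists_glue_of_family (F := X) (Z' := pA str A) (fun _ : Unit => pA str B)
    (fun _ => pm str (Algebra.ofId A B)) hp hs (fun _ => ℓ.1) (by
      intro _ _ Q qi qj e
      have e1' : hpb.lift qi qj e ≫ pm str (e1 A B) = qi := hpb.lift_fst _ _ _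
      have e2' : hpb.lift qi qj e ≫ pm str (e2 A B) = qj := hpb.lift_snd _ _ _
      have hqi : (yon S).map qi ≫ ℓ.1 =
          (yon S).map (hpb.lift qi qj e) ≫ (yon S).map (pm str (e1 A B)) ≫ ℓ.1 := by
        rw [← Category.assoc, ← Functor.map_comp, e1']
      have hqj : (yon S).map qj ≫ ℓ.1 =
          (yon S).map (hpb.lift qi qj e) ≫ (yon S).map (pm str (e2 A B)) ≫ ℓ.1 := by
        rw [← Category.assoc, ← Functor.map_comp, e2']
      show (yon S).map qi ≫ ℓ.1 = (yon S).map qj ≫ ℓ.1
      rw [hqi, hqj, h'])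
  have hl' : (yon S).map (pm str (Algebra.ofId A B)) ≫ l = ℓ.1 := hl ()
  have hlf : l ≫ f = (yon S).map (gA str A) := by
    refine hom_ext_of_family (F := (yon S).obj (pT' str)) (Z' := pA str A)
      (fun _ : Unit => pA str B) (fun _ => pm str (Algebra.ofId A B)) hp hs _ _ (fun i => ?_)
    show (yon S).map (pm str (Algebra.ofId A B)) ≫ l ≫ f =
      (yon S).map (pm str (Algebra.ofId A B)) ≫ (yon S).map (gA str A)
    rw [← Category.assoc, hl', hℓ2, ← Functor.map_comp, pm_gA]
  exact ⟨⟨l, hlf⟩, Subtype.ext hl'⟩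

/-- Second sheaf condition: separatedness along `Spec (B ⧸ I B) ⟶ Spec (A ⧸ I)`. -/
theorem sh2 (I : Ideal A) {B : Type u} [CommRing B] [Algebra A B]
    (hfl : (@Flat ⊓ @LocallyOfFinitePresentation : MorphismProperty Scheme.{u})
      (Spec.map (CommRingCat.ofHom (algebraMap A B))))
    (hsurj : Surjective (Spec.map (CommRingCat.ofHom (algebraMap A B)))) :
    Function.Injective ((liftFun str f).map (qA I B)) := by
  intro ℓ₁ ℓ₂ h
  have hpbS := isPullback_spec_quot (algebraMap A B) I
  have hq : (pm str (qA I B)).left = Spec.map (CommRingCat.ofHom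
      (Ideal.quotientMap (I.map (algebraMap A B)) (algebraMap A B) Ideal.le_comap_map)) := rfl
  have hfl' : (@Flat ⊓ @LocallyOfFinitePresentation : MorphismProperty Scheme.{u})
      (pm str (qA I B)).left := by
    rw [hq]
    exact MorphismProperty.of_isPullback hpbS.flip hfl
  have hsurj' : Surjective (pm str (qA I B)).left := by
    rw [hq]
    exact MorphismProperty.of_isPullback (P := @Surjective) hpbS.flip hsurj
  apply Subtype.ext
  exact hom_ext_of_family (F := X) (Z' := pA str (A ⧸ I)) (fun _ : Unit => pA str (B ⧸ IB I B))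
    (fun _ => pm str (qA I B)) (fun _ => hfl') (fun x => ⟨(), hsurj'.surj x⟩) ℓ₁.1 ℓ₂.1
    (fun _ => congrArg Subtype.val h)

theorem faithfullyFlat_of_spec {B : Type u} [CommRing B] [Algebra A B]
    (hfl : Flat (Spec.map (CommRingCat.ofHom (algebraMap A B))))
    (hsurj : Surjective (Spec.map (CommRingCat.ofHom (algebraMap A B)))) :
    Module.FaithfullyFlat A B :=
  (RingHom.faithfullyFlat_algebraMap_iff).1
    ((flat_and_surjective_SpecMap_iff (CommRingCat.ofHom (algebraMap A B))).1 ⟨hfl, hsurj⟩)

end LiftFun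

end Groth.Agent.Helper2.FDesc
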