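import Mathlib
import Groth.Prelude.Def_AlgSpInf
import Groth.Agent.Lib.Helper2.SmLift.SpLift
import Groth.Agent.Lib.Helper2.AlgSp.AffDescApp
import Groth.Agent.Lib.Helper2.AlgSp.FormalEtaleChar

/-!
# Lifting through an affine étale chart after an affine étale cover (helper2)

For a smooth morphism `f : X ⟶ h_{Spec A}` from an algebraic space and a point `top` of `X` over
`Spec (A ⧸ I)`, `I` nilpotent, there are an affine étale chart `Spec C ⟶ X` with `C` smooth over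
`A`, an étale faithfully flat `A`-algebra `B`, and a factorisation of `top` restricted to
`Spec (B ⧸ I B)` through the chart.
-/

set_option autoImplicit false
set_option backward.isDefEq.respectTransparency.types false
set_option synthInstance.maxHeartbeats 400000
set_option maxHeartbeats 4000000
set_option linter.style.haveILetI false
set_option linter.unusedSectionVars false
set_option linter.unusedVariables false
set_option linter.unusedSimpArgs false
set_option linter.unnecessarySimpa false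

universe u

open CategoryTheory CategoryTheory.Limits AlgebraicGeometry Opposite AlgSp
open Groth.Agent.Helper2.AlgSpBasic Groth.Agent.Helper2.AlgSpFormal
open Groth.Agent.Helper2.FormalLib
open Groth.Agent.Helper2.SmLift.SpLift

namespace Groth.Agent.Helper2.FDesc

variable {S : Scheme.{u}}

/-- A morphism from a quasi-compact scheme factors, after an affine étale cover of the source,
through an affine scheme étale over the target. -/
theorem exists_affine_chart_refinement {Z₁ U₀ : Over S} [CompactSpace ↥Z₁.left] (u₁ : Z₁ ⟶ U₀) :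
    ∃ (Uc : Over S) (jc : Uc ⟶ U₀) (Z₂ : Over S) (r : Z₂ ⟶ Z₁) (u₂ : Z₂ ⟶ Uc),
      IsAffine Uc.left ∧ Etale jc.left ∧ IsAffine Z₂.left ∧ Etale r.left ∧ Surjective r.left ∧
        u₂ ≫ jc = r ≫ u₁ := by
  classical
  let 𝒰 := U₀.left.affineCover
  let O : 𝒰.I₀ → Set ↥Z₁.left := fun i => u₁.left ⁻¹' Set.range (𝒰.f i).base
  have hO : ∀ i, IsOpen (O i) := fun i =>
    (𝒰.f i).isOpenEmbedding.isOpen_range.preimage u₁.left.continuous
  have hcov : (Set.univ : Set ↥Z₁.left) ⊆ ⋃ i, O i := by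
    intro z _
    obtain ⟨i, y, hy⟩ := 𝒰.exists_eq (u₁.left z)
    exact Set.mem_iUnion.mpr ⟨i, y, hy⟩
  obtain ⟨t, ht⟩ := isCompact_univ.elim_finite_subcover O hO hcov
  let g : ↥t → Scheme.{u} := fun i => 𝒰.X i.1
  have hg : ∀ i, IsAffine (g i) := fun i => inferInstance
  let h : ∀ i : ↥t, g i ⟶ U₀.left := fun i => 𝒰.f i.1
  have hh : ∀ i, Etale (h i) := fun i => inferInstance
  let j : (∐ g) ⟶ U₀.left := Sigma.desc h
  have hj : Etale j := etale_sigma_desc g h
  let Uc : Over S := Over.mk (j ≫ U₀.hom)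
  let jc : Uc ⟶ U₀ := Over.homMk j rfl
  have hpbO := IsPullback.of_hasPullback u₁ jc
  have hpbL : IsPullback (pullback.fst u₁ jc).left (pullback.snd u₁ jc).left u₁.left jc.left :=
    isPullback_left_of_over hpbO
  have hp1e : Etale (pullback.fst u₁ jc).left :=
    MorphismProperty.of_isPullback (P := @Etale) hpbL.flip hj
  have hp1s : Surjective (pullback.fst u₁ jc).left := by
    refine ⟨fun z => ?_⟩
    have hz := ht (Set.mem_univ z)
    simp only [Set.mem_iUnion] at hz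
    obtain ⟨i, hi, y, hy⟩ := hz
    have e1 : Sigma.ι g ⟨i, hi⟩ ≫ j = 𝒰.f i := Sigma.ι_desc h ⟨i, hi⟩
    have hy' : u₁.left.base z = jc.left.base ((Sigma.ι g ⟨i, hi⟩).base y) := by
      have e2 : jc.left.base ((Sigma.ι g ⟨i, hi⟩).base y) =
          (Sigma.ι g ⟨i, hi⟩ ≫ j).base y := rfl
      rw [e2, e1]
      exact hy.symm
    obtain ⟨p, hp1, -⟩ := Scheme.exists_preimage_of_isPullback hpbL z
      ((Sigma.ι g ⟨i, hi⟩).base y) hy'
    exact ⟨p, hp1⟩
  obtain ⟨Z₂, d, hZ₂, hde, hds⟩ :=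
    exists_affine_etale_refinement (pullback.fst u₁ jc) hp1e hp1s
  exact ⟨Uc, jc, Z₂, d ≫ pullback.fst u₁ jc, d ≫ pullback.snd u₁ jc,
    (inferInstance : IsAffine (∐ g)), hj, hZ₂, hde, hds, by
      rw [Category.assoc, Category.assoc, pullback.condition]⟩

section Raw

variable {A : Type u} [CommRing A] (I : Ideal A) (str : Spec (CommRingCat.of A) ⟶ S)

/-- The chart-lifting theorem: affine étale chart, affine étale cover and factorisation. -/
theorem exists_chart_lift {X : Sp S} (hX : IsAlgSpace X) (f : X ⟶ (yon S).obj (pT' str))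
    (hf : LocP @Smooth f) (hI : ∀ x ∈ I, IsNilpotent x)
    (top : (yon S).obj (pT I str) ⟶ X) (comm : top ≫ f = (yon S).map (pj I str)) :
    ∃ (C : Type u) (_ : CommRing C) (φC : A →+* C)
      (c₁ : (yon S).obj (pT' (Spec.map (CommRingCat.ofHom φC) ≫ str)) ⟶ X)
      (B : Type u) (_ : CommRing B) (φB : A →+* B)
      (u₀ : pT (I.map φB) (Spec.map (CommRingCat.ofHom φB) ≫ str) ⟶
        pT' (Spec.map (CommRingCat.ofHom φC) ≫ str)),
      φC.Smooth ∧ RepWith @Etale c₁ ∧ c₁ ≫ f = (yon S).map (pg' str φC) ∧ φB.Etale ∧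
      Surjective (Spec.map (CommRingCat.ofHom φB)) ∧
      (yon S).map u₀ ≫ c₁ = (yon S).map (pg I str φB) ≫ top ∧
      u₀ ≫ pg' str φC = pj (I.map φB) (Spec.map (CommRingCat.ofHom φB) ≫ str) ≫ pg' str φB := by
  obtain ⟨U₀, cU₀, hcU₀e, hcU₀s⟩ := hX.atlas
  obtain ⟨h₀, hh₀⟩ := (yon S).map_surjective (cU₀ ≫ f)
  haveI hsm : Smooth h₀.left := hf cU₀ (𝟙 _) h₀ hcU₀e (repWith_id @Etale (pT' str))
    (by rw [hh₀, Category.comp_id])
  obtain ⟨W, snd, fst, hpb⟩ := hcU₀e.1 top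
  have hsnd_et : Etale snd.left := hcU₀e.2 top fst snd hpb
  have hsnd_surj : Surjective snd.left := hcU₀s.2 top fst snd hpb
  obtain ⟨fst', hfst'⟩ := (yon S).map_surjective fst
  haveI : CompactSpace ↥(pT I str).left :=
    inferInstanceAs (CompactSpace ↥(Spec (CommRingCat.of (A ⧸ I))))
  obtain ⟨Z₁, d₁, hZ₁, hd₁e, hd₁s⟩ := exists_affine_etale_refinement snd hsnd_et hsnd_surj
  haveI := hZ₁
  haveI : CompactSpace ↥Z₁.left := inferInstance
  obtain ⟨Uc, jc, Z₂, r, u₂, hUc, hjc, hZ₂, hre, hrs, hu₂⟩ :=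
    exists_affine_chart_refinement (d₁ ≫ fst')
  haveI := hUc
  haveI := hZ₂
  haveI := hjc
  haveI := hre
  obtain ⟨s₂, hs₂⟩ : ∃ s₂ : Z₂ ⟶ pT I str, s₂ = r ≫ d₁ ≫ snd := ⟨_, rfl⟩
  have hs₂e : Etale s₂.left := by
    rw [hs₂, Over.comp_left]
    haveI := hd₁e
    infer_instance
  have hs₂s : Surjective s₂.left := by
    rw [hs₂, Over.comp_left]
    haveI := hd₁s
    haveI := hrs
    infer_instance
  -- the affine cover as a ring
  obtain ⟨ι, hι⟩ : ∃ ι : Spec Γ(Z₂.left, ⊤) ⟶ Z₂.left, ι = Z₂.left.isoSpec.inv := ⟨_, rfl⟩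
  haveI hιiso : IsIso ι := by rw [hι]; infer_instance
  obtain ⟨ψc, hψc⟩ : ∃ ψc : CommRingCat.of (A ⧸ I) ⟶ Γ(Z₂.left, ⊤),
      Spec.map ψc = ι ≫ s₂.left := ⟨Spec.preimage (ι ≫ s₂.left), Spec.map_preimage _⟩
  have hψet : ψc.hom.Etale := by
    have : Etale (Spec.map ψc) := by rw [hψc]; infer_instance
    exact (HasRingHomProperty.Spec_iff (P := @Etale)).1 this
  obtain ⟨B, _, φ, hφ, ε, hε, hεψ⟩ :=
    Groth.Agent.Helper2.FormalSmoothLocal.exists_lift_ring I ψc.hom hψet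
  have hcomp : (Spec.map (CommRingCat.ofHom ε) ≫ ι) ≫ s₂.left =
      Spec.map (CommRingCat.ofHom (Ideal.quotientMap (I.map φ) φ Ideal.le_comap_map)) := by
    rw [Category.assoc, ← hψc, ← Spec.map_comp]
    congr 1
    ext x
    exact congrArg (fun m => m x) hεψ
  obtain ⟨κ, hκ⟩ : ∃ κ : pT (I.map φ) (Spec.map (CommRingCat.ofHom φ) ≫ str) ⟶ Z₂,
      κ.left = Spec.map (CommRingCat.ofHom ε) ≫ ι := by
    refine ⟨Over.homMk (Spec.map (CommRingCat.ofHom ε) ≫ ι) ?_, rfl⟩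
    have h1 : s₂.left ≫ (pT I str).hom = Z₂.hom := Over.w s₂
    rw [← h1, ← Category.assoc, hcomp]
    change _ ≫ _ ≫ str = _ ≫ _ ≫ str
    rw [reassoc_of% pT_comm I φ]
  have hκs₂ : κ ≫ s₂ = pg I str φ := by
    apply Over.OverMorphism.ext
    rw [Over.comp_left, hκ, hcomp]
    rfl
  have hiso : IsIso (CommRingCat.ofHom ε) := (ConcreteCategory.isIso_iff_bijective _).2 hε
  have hφs : Surjective (Spec.map (CommRingCat.ofHom φ)) := by
    refine ⟨fun z => ?_⟩
    obtain ⟨t₀, ht₀⟩ := (surjective_spec_quot_nil I hI).surj z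
    obtain ⟨w, hw⟩ := hs₂s.surj t₀
    obtain ⟨w', hw'⟩ := (Spec.map (CommRingCat.ofHom ε) ≫ ι).surjective w
    refine ⟨Spec.map (CommRingCat.ofHom (Ideal.Quotient.mk (I.map φ))) w', ?_⟩
    have e1 : Spec.map (CommRingCat.ofHom (Ideal.Quotient.mk (I.map φ))) ≫
        Spec.map (CommRingCat.ofHom φ) =
        (Spec.map (CommRingCat.ofHom ε) ≫ ι) ≫ s₂.left ≫
          Spec.map (CommRingCat.ofHom (Ideal.Quotient.mk I)) := by
      rw [← Category.assoc, hcomp, pT_comm]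
    rw [← Scheme.Hom.comp_apply, e1, Scheme.Hom.comp_apply, Scheme.Hom.comp_apply, hw', hw, ht₀]
  -- the chart as a ring
  obtain ⟨ιC, hιC⟩ : ∃ ιC : Spec Γ(Uc.left, ⊤) ⟶ Uc.left, ιC = Uc.left.isoSpec.inv := ⟨_, rfl⟩
  haveI hιCiso : IsIso ιC := by rw [hιC]; infer_instance
  obtain ⟨φCc, hφCc⟩ : ∃ φCc : CommRingCat.of A ⟶ Γ(Uc.left, ⊤),
      Spec.map φCc = ιC ≫ jc.left ≫ h₀.left := ⟨Spec.preimage _, Spec.map_preimage _⟩
  have hφCsm : φCc.hom.Smooth := by
    have : Smooth (Spec.map φCc) := by rw [hφCc]; infer_instance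
    exact (HasRingHomProperty.Spec_iff (P := @Smooth)).1 this
  have hjh : jc.left ≫ h₀.left ≫ str = Uc.hom := by
    have := Over.w (jc ≫ h₀)
    rw [Over.comp_left, Category.assoc] at this
    exact this
  have hstrC : ιC ≫ Uc.hom = Spec.map (CommRingCat.ofHom φCc.hom) ≫ str := by
    have h2 : Spec.map (CommRingCat.ofHom φCc.hom) = ιC ≫ jc.left ≫ h₀.left := hφCc
    rw [h2, Category.assoc, Category.assoc, hjh]
  obtain ⟨εC, hεC⟩ : ∃ εC : pT' (Spec.map (CommRingCat.ofHom φCc.hom) ≫ str) ⟶ Uc,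
      εC.left = ιC := ⟨Over.homMk ιC hstrC, rfl⟩
  haveI hεCiso : IsIso εC := by
    haveI : IsIso ((Over.forget S).map εC) := by
      show IsIso εC.left
      rw [hεC]
      infer_instance
    exact isIso_of_reflects_iso εC (Over.forget S)
  obtain ⟨c₁, hc₁⟩ : ∃ c₁ : (yon S).obj (pT' (Spec.map (CommRingCat.ofHom φCc.hom) ≫ str)) ⟶ X,
      c₁ = (yon S).map (εC ≫ jc) ≫ cU₀ := ⟨_, rfl⟩
  have hc₁e : RepWith @Etale c₁ := by
    rw [hc₁]
    refine repWith_comp @Etale ((repWith_yon_map_iff @Etale _).2 ?_) hcU₀e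
    rw [Over.comp_left, hεC]
    infer_instance
  have hεCh : εC ≫ jc ≫ h₀ = pg' str φCc.hom := by
    apply Over.OverMorphism.ext
    rw [Over.comp_left, Over.comp_left, hεC]
    exact hφCc.symm
  have hc₁f : c₁ ≫ f = (yon S).map (pg' str φCc.hom) := by
    rw [hc₁, Category.assoc, ← hh₀, ← Functor.map_comp, Category.assoc, hεCh]
  obtain ⟨u₀, hu₀⟩ : ∃ u₀ : pT (I.map φ) (Spec.map (CommRingCat.ofHom φ) ≫ str) ⟶
      pT' (Spec.map (CommRingCat.ofHom φCc.hom) ≫ str), u₀ = κ ≫ u₂ ≫ inv εC := ⟨_, rfl⟩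
  have hu₀c : (yon S).map u₀ ≫ c₁ = (yon S).map (pg I str φ) ≫ top := by
    have e1 : u₀ ≫ εC ≫ jc = κ ≫ r ≫ d₁ ≫ fst' := by
      rw [hu₀, Category.assoc, Category.assoc, IsIso.inv_hom_id_assoc, hu₂]
    have e3 : (κ ≫ r ≫ d₁) ≫ snd = pg I str φ := by
      rw [← hκs₂, hs₂]
      simp only [Category.assoc]
    have e2 : κ ≫ r ≫ d₁ ≫ fst' = (κ ≫ r ≫ d₁) ≫ fst' := by
      simp only [Category.assoc]
    rw [hc₁, ← Category.assoc, ← Functor.map_comp, e1, e2, Functor.map_comp, Category.assoc,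
      hfst', hpb.w, ← Category.assoc, ← Functor.map_comp, e3]
  have hu₀g : u₀ ≫ pg' str φCc.hom =
      pj (I.map φ) (Spec.map (CommRingCat.ofHom φ) ≫ str) ≫ pg' str φ := by
    apply (yon S).map_injective
    rw [Functor.map_comp, ← hc₁f, ← Category.assoc, hu₀c, Category.assoc, comm,
      ← Functor.map_comp, ← psq]
  exact ⟨↑Γ(Uc.left, ⊤), inferInstance, φCc.hom, c₁, B, inferInstance, φ, u₀, hφCsm, hc₁e, hc₁f,
    hφ, hφs, hu₀c, hu₀g⟩

end Raw

end Groth.Agent.Helper2.FDesc
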