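import Mathlib
import Groth.Prelude.Def_AlgSpInf
import Groth.Agent.Lib.Helper2.FDesc.Geo1
import Groth.Agent.Lib.Helper2.FDesc.Geo2
import Groth.Agent.Lib.Helper2.EtaleLocalSmooth
import Groth.Agent.Lib.Helper2.SmLift.Smooth
import Groth.Agent.Lib.Helper2.AlgSp.LocP
import Groth.Agent.Lib.Helper3.InfSq

/-!
# Smooth morphisms of algebraic spaces are formally smooth (helper2)

Assembly of the descent theorem `FDesc.exists_descent` with the geometric input of `Geo1` and
`Geo2`: a morphism of algebraic spaces which is smooth (étale locally on source and target) has the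
infinitesimal lifting property, with the lift existing globally on the affine thickening.
-/

set_option autoImplicit false
set_option backward.isDefEq.respectTransparency.types false
set_option synthInstance.maxHeartbeats 400000
set_option maxHeartbeats 4000000
set_option linter.style.haveILetI false
set_option linter.unusedSectionVars false
set_option linter.unusedVariables false
set_option linter.unusedSimpArgs false
set_option linter.unnecessarySimpa false

universe u

open CategoryTheory CategoryTheory.Limits AlgebraicGeometry Opposite AlgSp TensorProduct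
open Groth.Agent.Helper2.AlgSpBasic Groth.Agent.Helper2.AlgSpFormal
open Groth.Agent.Helper2.FormalLib
open Groth.Agent.Helper2.SmLift.SpLift

namespace Groth.Agent.Helper2.FDesc

variable {S : Scheme.{u}}

section Base

variable {A : Type u} [CommRing A] (I : Ideal A) (str : Spec (CommRingCat.of A) ⟶ S)

/-- Existence of the global lift from chart data expressed with algebra instances. -/
theorem lift_of_chart_data {X : Sp S} (f : X ⟶ (yon S).obj (pT' str))
    (hI : ∀ x ∈ I, ∀ y ∈ I, x * y = 0)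
    (top : (yon S).obj (pT I str) ⟶ X) (comm : top ≫ f = (yon S).map (pj I str))
    {C : Type u} [CommRing C] [Algebra A C] [Algebra.Smooth A C]
    (c₁ : (yon S).obj (pA str C) ⟶ X) (hc₁e : RepWith @Etale c₁)
    (hc₁f : c₁ ≫ f = (yon S).map (gA str C))
    {B : Type u} [CommRing B] [Algebra A B]
    (hBet : Etale (Spec.map (CommRingCat.ofHom (algebraMap A B))))
    (hBs : Surjective (Spec.map (CommRingCat.ofHom (algebraMap A B))))
    (u₀ : pT (I.map (algebraMap A B)) (Spec.map (CommRingCat.ofHom (algebraMap A B)) ≫ str) ⟶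
      pA str C)
    (hu₀c : (yon S).map u₀ ≫ c₁ = (yon S).map (pg I str (algebraMap A B)) ≫ top)
    (hu₀g : u₀ ≫ gA str C =
      pj (I.map (algebraMap A B)) (Spec.map (CommRingCat.ofHom (algebraMap A B)) ≫ str) ≫
        pg' str (algebraMap A B)) :
    ∃ l : (yon S).obj (pT' str) ⟶ X, (yon S).map (pj I str) ≫ l = top ∧ l ≫ f = 𝟙 _ := by
  haveI := hBet
  have hBfl : (@Flat ⊓ @LocallyOfFinitePresentation : MorphismProperty Scheme.{u})
      (Spec.map (CommRingCat.ofHom (algebraMap A B))) := ⟨inferInstance, inferInstance⟩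
  haveI : Module.FaithfullyFlat A B := faithfullyFlat_of_spec hBfl.1 hBs
  -- the ring map underlying `u₀`
  obtain ⟨g₀c, hg₀c⟩ : ∃ g₀c : CommRingCat.of C ⟶ CommRingCat.of (B ⧸ IB I B),
      Spec.map g₀c = u₀.left := ⟨Spec.preimage u₀.left, Spec.map_preimage _⟩
  have hg₀comm : g₀c.hom.comp (algebraMap A C) =
      (Ideal.Quotient.mk (IB I B)).comp (algebraMap A B) := by
    have h1 : Spec.map (CommRingCat.ofHom (algebraMap A C) ≫ g₀c) =
        Spec.map (CommRingCat.ofHom (algebraMap A B) ≫
          CommRingCat.ofHom (Ideal.Quotient.mk (IB I B))) := by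
      rw [Spec.map_comp, Spec.map_comp, hg₀c]
      exact congrArg (fun t => t.left) hu₀g
    exact congrArg CommRingCat.Hom.hom (Spec.map_injective h1)
  have hCfs : (algebraMap A C).FormallySmooth :=
    (RingHom.formallySmooth_algebraMap).2 inferInstance
  obtain ⟨ψ, hψ1, hψ2⟩ := Groth.Agent.Helper2.SmLift.exists_lift_formallySmooth (algebraMap A C)
    hCfs (algebraMap A B) g₀c.hom (Ideal.Quotient.mk (IB I B)) Ideal.Quotient.mk_surjective (by
      intro x hx y hy
      rw [Ideal.mk_ker] at hx hy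
      exact sq_zero_IB I hI B x hx y hy) hg₀comm
  obtain ⟨ut, hut⟩ : ∃ ut : C →ₐ[A] B, ut.toRingHom = ψ :=
    ⟨{ toRingHom := ψ, commutes' := fun a => RingHom.congr_fun hψ2 a }, rfl⟩
  -- chart and point
  obtain ⟨c, hc⟩ : ∃ c : (liftFun str f).obj C, c.1 = c₁ := ⟨⟨c₁, hc₁f⟩, rfl⟩
  obtain ⟨s, hs⟩ : ∃ s : (liftFun str f).obj (A ⧸ I), s.1 = top := ⟨⟨top, comm⟩, rfl⟩
  have hFE : FE (liftFun str f) c := fe_of_repWith_etale str f c (by rw [hc]; exact hc₁e)
  have eqB : (Ideal.Quotient.mk (IB I B)).comp (algebraMap A B) =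
      algebraMap A (B ⧸ IB I B) := rfl
  obtain ⟨θ, hθ⟩ : ∃ θ : pA str (B ⧸ IB I B) ⟶
      pT (IB I B) (Spec.map (CommRingCat.ofHom (algebraMap A B)) ≫ str),
      θ.left = 𝟙 (Spec (CommRingCat.of (B ⧸ IB I B))) := by
    refine ⟨Over.homMk (𝟙 (Spec (CommRingCat.of (B ⧸ IB I B)))) ?_, rfl⟩
    show 𝟙 (Spec (CommRingCat.of (B ⧸ IB I B))) ≫ Spec.map (CommRingCat.ofHom (Ideal.Quotient.mk (IB I B))) ≫
        Spec.map (CommRingCat.ofHom (algebraMap A B)) ≫ str =
      Spec.map (CommRingCat.ofHom (algebraMap A (B ⧸ IB I B))) ≫ str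
    rw [Category.id_comp, ← eqB, CommRingCat.ofHom_comp, Spec.map_comp, Category.assoc]
  have hθu : θ.left ≫ u₀.left = u₀.left := by
    rw [hθ]
    exact Category.id_comp _
  have hθpg : θ.left ≫ (pg I str (algebraMap A B)).left = (pg I str (algebraMap A B)).left := by
    rw [hθ]
    exact Category.id_comp _
  have hpm1 : pm str (piI I B) ≫ pm str ut = θ ≫ u₀ := by
    apply Over.OverMorphism.ext
    rw [Over.comp_left, Over.comp_left, hθu, ← hg₀c]
    show Spec.map (CommRingCat.ofHom (piI I B).toRingHom) ≫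
      Spec.map (CommRingCat.ofHom ut.toRingHom) = Spec.map g₀c
    rw [← Spec.map_comp, hut]
    congr 1
    ext x
    exact RingHom.congr_fun hψ1 x
  have eqA : (qA I B).toRingHom = Ideal.quotientMap (I.map (algebraMap A B)) (algebraMap A B)
      Ideal.le_comap_map := rfl
  have hpm2 : pm str (qA I B) = θ ≫ pg I str (algebraMap A B) := by
    apply Over.OverMorphism.ext
    rw [Over.comp_left, hθpg, pm_left, pg_left, eqA]
  have hsF : (liftFun str f).map (piI I B) ((liftFun str f).map ut c) =
      (liftFun str f).map (qA I B) s := by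
    apply Subtype.ext
    show (yon S).map (pm str (piI I B)) ≫ (yon S).map (pm str ut) ≫ c.1 =
      (yon S).map (pm str (qA I B)) ≫ s.1
    rw [hc, hs, ← Category.assoc, ← Functor.map_comp, hpm1, hpm2, Functor.map_comp,
      Functor.map_comp, Category.assoc, hu₀c, Category.assoc]
  obtain ⟨ℓA, hℓA⟩ := exists_descent I hI (liftFun str f) c hFE B
    (fun ℓ h => sh1 str f hBfl hBs ℓ h) (sh2 str f I hBfl hBs) s ut hsF
  obtain ⟨θA, hθA⟩ : ∃ θA : pT' str ⟶ pA str A, θA.left = 𝟙 (Spec (CommRingCat.of A)) := by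
    refine ⟨Over.homMk (𝟙 (Spec (CommRingCat.of A))) ?_, rfl⟩
    show 𝟙 (Spec (CommRingCat.of A)) ≫ Spec.map (CommRingCat.ofHom (algebraMap A A)) ≫ str = str
    have h1 : Spec.map (CommRingCat.ofHom (algebraMap A A)) = 𝟙 (Spec (CommRingCat.of A)) :=
      Spec.map_id _
    rw [Category.id_comp, h1, Category.id_comp]
  have hℓA1 : (yon S).map (pm str (Ideal.Quotient.mkₐ A I)) ≫ ℓA.1 = top := by
    have h1 := congrArg Subtype.val hℓA
    rw [hs] at h1
    exact h1
  have hℓA2 : ℓA.1 ≫ f = (yon S).map (gA str A) := ℓA.2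
  have hθA1 : (pj I str).left ≫ θA.left = (pj I str).left := by
    rw [hθA]
    exact Category.comp_id _
  have hθA2 : θA.left ≫ (gA str A).left = (gA str A).left := by
    rw [hθA]
    exact Category.id_comp _
  have e1 : pj I str ≫ θA = pm str (Ideal.Quotient.mkₐ A I) := by
    apply Over.OverMorphism.ext
    rw [Over.comp_left, hθA1, pm_left, Ideal.Quotient.mkₐ_toRingHom]
    rfl
  have e2 : θA ≫ gA str A = 𝟙 (pT' str) := by
    apply Over.OverMorphism.ext
    rw [Over.comp_left, hθA2]
    exact Spec.map_id _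
  refine ⟨(yon S).map θA ≫ ℓA.1, ?_, ?_⟩
  · rw [← Category.assoc, ← Functor.map_comp, e1]
    exact hℓA1
  · rw [Category.assoc, hℓA2, ← Functor.map_comp, e2, CategoryTheory.Functor.map_id]

/-- A smooth morphism from an algebraic space to an affine scheme lifts sections along square
zero thickenings of the base. -/
theorem lift_of_smooth_base {X : Sp S} (hX : IsAlgSpace X) (f : X ⟶ (yon S).obj (pT' str))
    (hf : LocP @Smooth f) (hI2 : I ^ 2 = ⊥)
    (top : (yon S).obj (pT I str) ⟶ X) (comm : top ≫ f = (yon S).map (pj I str)) :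
    ∃ l : (yon S).obj (pT' str) ⟶ X, (yon S).map (pj I str) ≫ l = top ∧ l ≫ f = 𝟙 _ := by
  have hI : ∀ x ∈ I, ∀ y ∈ I, x * y = 0 := by
    intro x hx y hy
    have h1 : x * y ∈ I ^ 2 := by
      rw [pow_two]
      exact Ideal.mul_mem_mul hx hy
    rw [hI2] at h1
    exact (Ideal.mem_bot).1 h1
  have hInil : ∀ x ∈ I, IsNilpotent x := fun x hx => ⟨2, by rw [pow_two]; exact hI x hx x hx⟩
  obtain ⟨C, _, φC, c₁, B, _, φB, u₀, hφCsm, hc₁e, hc₁f, hφBe, hφBs, hu₀c, hu₀g⟩ :=
    exists_chart_lift I str hX f hf hInil top comm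
  exact @lift_of_chart_data S A _ I str X f hI top comm C _ φC.toAlgebra hφCsm c₁ hc₁e hc₁f
    B _ φB.toAlgebra ((HasRingHomProperty.Spec_iff (P := @Etale)).2 hφBe) hφBs u₀ hu₀c hu₀g

end Base

/-- **Smooth morphisms of algebraic spaces are formally smooth.** -/
theorem isFormallySmoothMor_of_locP_smooth {X Y : Sp S} (hX : IsAlgSpace X) (hY : IsAlgSpace Y)
    (f : X ⟶ Y) (hf : LocP @Smooth f) : IsFormallySmoothMor f := by
  intro sq
  have hpb := IsPullback.of_hasPullback f sq.bot
  have hT' : IsAlgSpace ((yon S).obj sq.ptT') := IsAlgSpace.yon_obj _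
  have hX' : IsAlgSpace (pullback f sq.bot) :=
    isAlgSpace_of_isPullback hY.diag hX hT' f sq.bot _ _ hpb
  have hf' : LocP @Smooth (pullback.snd f sq.bot) :=
    locP_of_isPullback @Smooth hX hY hT' hX' f sq.bot _ _ hpb hf
  obtain ⟨l', h1, h2⟩ := lift_of_smooth_base sq.I sq.str hX' (pullback.snd f sq.bot) hf'
    sq.sq_zero (pullback.lift sq.top ((yon S).map sq.j) sq.comm) (pullback.lift_snd _ _ _)
  refine ⟨l' ≫ pullback.fst f sq.bot, ?_, ?_⟩
  · rw [← Category.assoc, h1, pullback.lift_fst]
  · rw [Category.assoc, pullback.condition, ← Category.assoc, h2, Category.id_comp]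

/-- Formal smoothness of `h_g` gives formal smoothness of the morphism of schemes. -/
theorem isFormallySmoothHom_of_isFormallySmoothMor_yon_map {U V : Over S} (h : U ⟶ V)
    (hh : IsFormallySmoothMor ((yon S).map h)) : MoreMor.IsFormallySmoothHom h.left := by
  intro A _ I hI a b w
  have ha : a ≫ U.hom = Spec.map (CommRingCat.ofHom (Ideal.Quotient.mk I)) ≫ b ≫ V.hom := by
    rw [← Over.w h, ← Category.assoc, ← w, Category.assoc]
  obtain ⟨τ, hτ⟩ : ∃ τ : Over.mk (Spec.map (CommRingCat.ofHom (Ideal.Quotient.mk I)) ≫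
      b ≫ V.hom) ⟶ U, τ.left = a := ⟨Over.homMk a ha, rfl⟩
  obtain ⟨β, hβ⟩ : ∃ β : Over.mk (b ≫ V.hom) ⟶ V, β.left = b := ⟨Over.homMk b rfl, rfl⟩
  obtain ⟨J, hJ⟩ : ∃ J : Over.mk (Spec.map (CommRingCat.ofHom (Ideal.Quotient.mk I)) ≫
      b ≫ V.hom) ⟶ Over.mk (b ≫ V.hom),
      J = Over.homMk (Spec.map (CommRingCat.ofHom (Ideal.Quotient.mk I))) rfl := ⟨_, rfl⟩
  have comm : τ ≫ h = J ≫ β := by
    apply Over.OverMorphism.ext
    rw [Over.comp_left, Over.comp_left, hτ, hβ, hJ]
    exact w.symm
  obtain ⟨m, hm1, hm2⟩ : ∃ m : (yon S).obj (Over.mk (b ≫ V.hom)) ⟶ (yon S).obj U,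
      (yon S).map J ≫ m = (yon S).map τ ∧ m ≫ (yon S).map h = (yon S).map β := by
    subst hJ
    exact hh
      { A := A
        I := I
        sq_zero := hI
        str := b ≫ V.hom
        top := (yon S).map τ
        bot := (yon S).map β
        comm := by rw [← Functor.map_comp, ← Functor.map_comp, comm] }
  obtain ⟨μ, rfl⟩ := (yon S).map_surjective m
  have e1 : J ≫ μ = τ := (yon S).map_injective (by rw [Functor.map_comp, hm1])
  have e2 : μ ≫ h = β := (yon S).map_injective (by rw [Functor.map_comp, hm2])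
  refine ⟨μ.left, ?_, ?_⟩
  · subst hJ
    exact (congrArg (fun m => m.left) e1).trans hτ
  · exact (congrArg (fun m => m.left) e2).trans hβ

/-- A morphism of algebraic spaces which is locally of finite presentation and formally smooth is
smooth. -/
theorem locP_smooth_of_lfp_formallySmooth {X Y : Sp S} (f : X ⟶ Y)
    (h1 : LocP @LocallyOfFinitePresentation f) (h2 : IsFormallySmoothMor f) :
    LocP @Smooth f := by
  intro U V a b h ha hb comm
  haveI : LocallyOfFinitePresentation h.left := h1 a b h ha hb comm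
  have ha' : IsFormallyEtaleMor a := isFormallyEtaleMor_of_repWith_etale a ha
  have hb' : IsFormallyEtaleMor b := isFormallyEtaleMor_of_repWith_etale b hb
  have h3 : IsFormallySmoothMor (a ≫ f) := Groth.Agent.Helper3.InfSqLib.smooth_comp _ _
    (isFormallySmoothMor_of_isFormallyEtaleMor ha') h2
  rw [comm] at h3
  have h4 : IsFormallySmoothMor ((yon S).map h) := Groth.Agent.Helper3.InfSqLib.smooth_of_comp _ _
    (isFormallyUnramifiedMor_of_isFormallyEtaleMor hb') h3
  exact Groth.Agent.Helper2.SmLift.smooth_of_isFormallySmoothHom h.left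
    (isFormallySmoothHom_of_isFormallySmoothMor_yon_map h h4)

/-- **Smooth = locally of finite presentation + formally smooth** for morphisms of algebraic
spaces. -/
theorem locP_smooth_iff {X Y : Sp S} (hX : IsAlgSpace X) (hY : IsAlgSpace Y) (f : X ⟶ Y) :
    LocP @Smooth f ↔ LocP @LocallyOfFinitePresentation f ∧ IsFormallySmoothMor f := by
  constructor
  · intro hf
    refine ⟨?_, isFormallySmoothMor_of_locP_smooth hX hY f hf⟩
    intro U V a b h ha hb comm
    haveI : Smooth h.left := hf a b h ha hb comm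
    infer_instance
  · rintro ⟨h1, h2⟩
    exact locP_smooth_of_lfp_formallySmooth f h1 h2

end Groth.Agent.Helper2.FDesc
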