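import Mathlib
import Groth.Prelude.Def_AlgSp4
import Groth.Prelude.Def_AlgSpInf
import Groth.Agent.Lib.Helper2.FDesc.Geo3
import Groth.Agent.Lib.Helper2.Sch.SmallExtSch

/-!
# Smoothness of morphisms of algebraic spaces and lifting along small extensions (helper2)
-/

set_option autoImplicit false
set_option backward.isDefEq.respectTransparency.types false
set_option synthInstance.maxHeartbeats 400000
set_option maxHeartbeats 4000000
set_option linter.style.haveILetI false
set_option linter.unusedSectionVars false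
set_option linter.unusedVariables false
set_option linter.unusedSimpArgs false
set_option linter.unnecessarySimpa false

universe u

open CategoryTheory CategoryTheory.Limits AlgebraicGeometry Opposite AlgSp
open Groth.Agent.Helper2.AlgSpBasic Groth.Agent.Helper2.AlgSpFormal
open Groth.Agent.Helper2.FormalLib

namespace Groth.Agent.Helper2.FDesc

variable {S : Scheme.{u}}

/-- The kernel of `Spec B ⟶ Spec A` has square zero when the kernel of `A → B` does. -/
theorem ker_spec_map_sq {A B : Type u} [CommRing A] [CommRing B] (φ : A →+* B)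
    (hI : RingHom.ker φ ^ 2 = ⊥) :
    (Spec.map (CommRingCat.ofHom φ)).ker * (Spec.map (CommRingCat.ofHom φ)).ker = ⊥ := by
  apply Scheme.IdealSheafData.ext_of_isAffine
  rw [Scheme.IdealSheafData.ideal_mul, Pi.mul_apply, Scheme.IdealSheafData.ideal_bot,
    Pi.bot_apply, Scheme.Hom.ker_apply, ← le_bot_iff, Ideal.mul_le]
  intro x hx y hy
  rw [Submodule.mem_bot]
  have key : ∀ z : Γ(Spec (CommRingCat.of A), ⊤),
      z ∈ RingHom.ker ((Spec.map (CommRingCat.ofHom φ)).app ⊤).hom →
        (Scheme.ΓSpecIso (CommRingCat.of A)).hom.hom z ∈ RingHom.ker φ := by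
    intro z hz
    have h1 := congr($(Scheme.ΓSpecIso_naturality (CommRingCat.ofHom φ)).hom z)
    simp only [CommRingCat.hom_comp, RingHom.comp_apply] at h1
    rw [RingHom.mem_ker] at hz
    change ((Spec.map (CommRingCat.ofHom φ)).appTop).hom z = 0 at hz
    rw [hz, map_zero] at h1
    exact (RingHom.mem_ker).2 h1.symm
  have h3 : (Scheme.ΓSpecIso (CommRingCat.of A)).hom.hom (x * y) ∈ RingHom.ker φ ^ 2 := by
    rw [map_mul, pow_two]
    exact Ideal.mul_mem_mul (key x hx) (key y hy)
  rw [hI, Submodule.mem_bot] at h3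
  have hinj : Function.Injective (Scheme.ΓSpecIso (CommRingCat.of A)).hom.hom :=
    (ConcreteCategory.bijective_of_isIso _).1
  exact hinj (by rw [h3, map_zero])

/-- `Spec` of a surjection with square zero kernel is a first order thickening. -/
theorem isFOT_spec_map {A B : Type u} [CommRing A] [CommRing B] (φ : A →+* B)
    (hφ : Function.Surjective φ) (hI : RingHom.ker φ ^ 2 = ⊥)
    (str : Spec (CommRingCat.of A) ⟶ S) :
    IsFOT (Over.homMk (Spec.map (CommRingCat.ofHom φ)) rfl :
      Over.mk (Spec.map (CommRingCat.ofHom φ) ≫ str) ⟶ Over.mk str) where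
  ci := IsClosedImmersion.spec_of_surjective _ hφ
  surj := by
    constructor
    intro p
    have hIp : RingHom.ker φ ≤ p.asIdeal := by
      intro x hx
      have h2 : x ^ 2 ∈ RingHom.ker φ ^ 2 := Ideal.pow_mem_pow hx 2
      rw [hI, Submodule.mem_bot] at h2
      exact p.isPrime.mem_of_pow_mem 2 (by rw [h2]; exact zero_mem _)
    have : p ∈ Set.range (PrimeSpectrum.comap φ) := by
      rw [_root_.range_comap_of_surjective _ _ hφ]
      exact hIp
    obtain ⟨q, hq⟩ := this
    exact ⟨q, hq⟩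
  sq := ker_spec_map_sq φ hI

/-- Formally smooth morphisms of sheaves lift along all first order thickenings of affine
schemes over `S`. -/
theorem el_of_isFormallySmoothMor_affine {F G : Sp S} (f : F ⟶ G)
    (hf : IsFormallySmoothMor f) {Z Z' : Over S} (t : Z ⟶ Z') (ht : IsFOT t)
    [IsAffine Z'.left] (top : (yon S).obj Z ⟶ F) (bot : (yon S).obj Z' ⟶ G)
    (comm : top ≫ f = (yon S).map t ≫ bot) :
    ∃ l : (yon S).obj Z' ⟶ F, (yon S).map t ≫ l = top ∧ l ≫ f = bot := by
  obtain ⟨A, _, I, hI, str, ε, ε', hε⟩ := exists_spec_model t ht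
  have hε' : (yon S).map ε.hom ≫ (yon S).map t =
      (yon S).map (Over.homMk (Spec.map (CommRingCat.ofHom (Ideal.Quotient.mk I))) rfl :
        Over.mk (Spec.map (CommRingCat.ofHom (Ideal.Quotient.mk I)) ≫ str) ⟶ Over.mk str) ≫
          (yon S).map ε'.hom := by
    rw [← Functor.map_comp, ← Functor.map_comp, hε]
  have comm' : ((yon S).map ε.hom ≫ top) ≫ f =
      (yon S).map (Over.homMk (Spec.map (CommRingCat.ofHom (Ideal.Quotient.mk I))) rfl :
        Over.mk (Spec.map (CommRingCat.ofHom (Ideal.Quotient.mk I)) ≫ str) ⟶ Over.mk str) ≫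
          (yon S).map ε'.hom ≫ bot := by
    rw [Category.assoc, comm, ← Category.assoc, hε', Category.assoc]
  obtain ⟨l₀, h1, h2⟩ := hf
    { A := A
      I := I
      sq_zero := hI
      str := str
      top := (yon S).map ε.hom ≫ top
      bot := (yon S).map ε'.hom ≫ bot
      comm := comm' }
  change (yon S).map (Over.homMk (Spec.map (CommRingCat.ofHom (Ideal.Quotient.mk I))) rfl :
        Over.mk (Spec.map (CommRingCat.ofHom (Ideal.Quotient.mk I)) ≫ str) ⟶ Over.mk str) ≫ l₀ =
      (yon S).map ε.hom ≫ top at h1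
  change l₀ ≫ f = (yon S).map ε'.hom ≫ bot at h2
  refine ⟨(yon S).map ε'.inv ≫ l₀, ?_, ?_⟩
  · rw [← cancel_epi ((yon S).map ε.hom), ← Category.assoc, hε', Category.assoc,
      ← Category.assoc ((yon S).map ε'.hom), ← Functor.map_comp, Iso.hom_inv_id,
      CategoryTheory.Functor.map_id, Category.id_comp, h1]
  · rw [Category.assoc, h2, ← Category.assoc, ← Functor.map_comp, Iso.inv_hom_id,
      CategoryTheory.Functor.map_id, Category.id_comp]

/-- The lifting property along small extensions of Artinian local rings. -/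
def SmallExtLift {X Y : Sp S} (f : X ⟶ Y) : Prop :=
  ∀ (B' B : Type u) [CommRing B'] [CommRing B] [IsLocalRing B'] [IsLocalRing B]
    [IsArtinianRing B'] [IsArtinianRing B] (π : B' →+* B), Function.Surjective π →
    (∃ t : B', RingHom.ker π = Ideal.span {t} ∧ ∀ a ∈ IsLocalRing.maximalIdeal B', a * t = 0) →
    ∀ (s : Spec (CommRingCat.of B') ⟶ S)
      (α : (AlgSp.yon S).obj (Over.mk (Spec.map (CommRingCat.ofHom π) ≫ s)) ⟶ X)
      (β : (AlgSp.yon S).obj (Over.mk s) ⟶ Y),
      AlgSp.LocP @LocallyOfFiniteType β →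
      α ≫ f = (AlgSp.yon S).map
        (Over.homMk (Spec.map (CommRingCat.ofHom π)) :
          Over.mk (Spec.map (CommRingCat.ofHom π) ≫ s) ⟶ Over.mk s) ≫ β →
      ∃ γ : (AlgSp.yon S).obj (Over.mk s) ⟶ X,
        (AlgSp.yon S).map (Over.homMk (Spec.map (CommRingCat.ofHom π)) :
          Over.mk (Spec.map (CommRingCat.ofHom π) ≫ s) ⟶ Over.mk s) ≫ γ = α ∧ γ ≫ f = β

theorem ker_sq_of_small {B' B : Type u} [CommRing B'] [CommRing B] [IsLocalRing B']
    [IsLocalRing B] (π : B' →+* B) (t : B') (hk : RingHom.ker π = Ideal.span {t})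
    (ht : ∀ a ∈ IsLocalRing.maximalIdeal B', a * t = 0) : RingHom.ker π ^ 2 = ⊥ := by
  have htm : t ∈ IsLocalRing.maximalIdeal B' := by
    rw [IsLocalRing.mem_maximalIdeal, mem_nonunits_iff]
    intro hu
    have h1 : (1 : B') ∈ RingHom.ker π := by
      rw [hk, Ideal.span_singleton_eq_top.2 hu]
      exact Submodule.mem_top
    rw [RingHom.mem_ker, map_one] at h1
    exact one_ne_zero h1
  rw [hk, Ideal.span_singleton_pow, pow_two, ht t htm]
  exact Ideal.span_singleton_eq_bot.2 rfl

theorem smallExtLift_of_smooth {X Y : Sp S} (hX : IsAlgSpace X) (hY : IsAlgSpace Y) (f : X ⟶ Y)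
    (hf : LocP @Smooth f) : SmallExtLift f := by
  rintro B' B _ _ _ _ _ _ π hπ ⟨t, hk, ht⟩ s α β - comm
  have hsq := ker_sq_of_small π t hk ht
  have hfs := isFormallySmoothMor_of_locP_smooth hX hY f hf
  haveI : IsAffine (Over.mk s).left := inferInstanceAs (IsAffine (Spec (CommRingCat.of B')))
  exact el_of_isFormallySmoothMor_affine f hfs _ (isFOT_spec_map π hπ hsq s) α β comm

theorem smooth_of_smallExtLift {X Y : Sp S} (hX : IsAlgSpace X) (hY : IsAlgSpace Y) (f : X ⟶ Y)
    (hYn : IsLocNoethSp Y) (hft : LocP @LocallyOfFiniteType f) (H : SmallExtLift f) :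
    LocP @Smooth f := by
  obtain ⟨V, b, hbe, hbs, hVn⟩ := hYn
  obtain ⟨U, a, h, hae, has, comm⟩ :=
    Groth.Agent.Helper2.AlgSpBasic.exists_chart_lift hX f b hbe hbs
  haveI : IsLocallyNoetherian V.left := hVn
  haveI : LocallyOfFiniteType h.left := hft a b h hae hbe comm
  refine locP_of_one_chart @Smooth hX.diag hY.diag f a b h hae has hbe comm ?_
  apply Groth.Agent.Helper2.SmallExtSch.smooth_of_liftProp
  intro B B' _ _ _ _ _ _ φ ε hφ hker hε α β hβ hcomm
  obtain ⟨s, hs⟩ : ∃ s : Spec (CommRingCat.of B') ⟶ S, s = β ≫ V.hom := ⟨_, rfl⟩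
  have hα : α ≫ U.hom = Spec.map (CommRingCat.ofHom φ) ≫ s := by
    rw [hs, ← Over.w h, ← Category.assoc, ← hcomm, Category.assoc]
  obtain ⟨αO, hαO⟩ : ∃ αO : Over.mk (Spec.map (CommRingCat.ofHom φ) ≫ s) ⟶ U, αO.left = α :=
    ⟨Over.homMk α hα, rfl⟩
  obtain ⟨βO, hβO⟩ : ∃ βO : Over.mk s ⟶ V, βO.left = β := ⟨Over.homMk β hs.symm, rfl⟩
  obtain ⟨tO, htO⟩ : ∃ tO : Over.mk (Spec.map (CommRingCat.ofHom φ) ≫ s) ⟶ Over.mk s,
      tO.left = Spec.map (CommRingCat.ofHom φ) ∧
      tO = Over.homMk (Spec.map (CommRingCat.ofHom φ)) rfl := ⟨_, rfl, rfl⟩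
  have hε' : ∀ a ∈ IsLocalRing.maximalIdeal B', a * ε = 0 := fun a ha => by
    rw [mul_comm]
    exact hε a ha
  have hsq := ker_sq_of_small φ ε hker hε'
  have htF : IsFOT tO := by
    rw [htO.2]
    exact isFOT_spec_map φ hφ hsq s
  have hcommO : αO ≫ h = tO ≫ βO := by
    apply Over.OverMorphism.ext
    rw [Over.comp_left, Over.comp_left, hαO, hβO, htO.1]
    exact hcomm.symm
  have hβL : LocP @LocallyOfFiniteType ((yon S).map βO ≫ b) := by
    refine locP_comp @LocallyOfFiniteType (IsAlgSpace.yon_obj _) (IsAlgSpace.yon_obj _) hY _ _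
      ?_ ?_
    · refine locP_of_repWith @LocallyOfFiniteType (IsAlgSpace.yon_obj _).diag _
        ((repWith_yon_map_iff _ _).2 ?_)
      rw [hβO]
      exact hβ
    · exact locP_mono (fun _ _ g hg => by haveI : Etale g := hg; infer_instance)
        (locP_of_repWith @Etale (IsAlgSpace.yon_obj _).diag b hbe)
  have hcommS : ((yon S).map αO ≫ a) ≫ f = (yon S).map tO ≫ ((yon S).map βO ≫ b) := by
    rw [Category.assoc, comm, ← Category.assoc, ← Functor.map_comp, hcommO, Functor.map_comp,
      Category.assoc]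
  obtain ⟨γ', hγ1, hγ2⟩ : ∃ γ' : (yon S).obj (Over.mk s) ⟶ X,
      (yon S).map tO ≫ γ' = (yon S).map αO ≫ a ∧ γ' ≫ f = (yon S).map βO ≫ b := by
    rw [htO.2] at hcommS ⊢
    exact H B' B φ hφ ⟨ε, hker, hε'⟩ s ((yon S).map αO ≫ a) ((yon S).map βO ≫ b) hβL hcommS
  obtain ⟨m, ⟨hm1, hm2⟩, -⟩ := ul_of_repWith_etale a hae tO htF ((yon S).map αO) γ' hγ1.symm
  obtain ⟨μ, rfl⟩ := (yon S).map_surjective m
  have e1 : tO ≫ μ = αO := (yon S).map_injective (by rw [Functor.map_comp, hm1])
  have e2 : μ ≫ h = βO := by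
    apply (yon S).map_injective
    refine uu_of_repWith_etale b hbe tO htF _ _ ?_ ?_
    · rw [← Functor.map_comp, ← Functor.map_comp, ← Category.assoc, e1, hcommO]
    · rw [Functor.map_comp, Category.assoc, ← comm, ← Category.assoc, hm2, hγ2]
  refine ⟨μ.left, ?_, ?_⟩
  · have h1 := congrArg (fun m => m.left) e1
    rw [← htO.1, ← hαO]
    exact h1
  · have h2 := congrArg (fun m => m.left) e2
    rw [← hβO]
    exact h2

end Groth.Agent.Helper2.FDesc
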