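import Mathlib
import Groth.Prelude.Def_AlgSp4
import Groth.Prelude.Def_AlgSpInf
import Groth.Prelude.Def_AlgSpDec
import Groth.Agent.Lib.Helper2.FDesc.SmallExt
import Groth.Agent.Lib.Helper2.Sch.SmallExtAt
import Groth.Agent.Lib.Helper2.AlgSp.OpenSub
import Groth.Agent.Lib.Helper2.AlgSp.Points
import Groth.Agent.Lib.Helper2.AlgSp.LocP

/-!
# Smoothness at a point of a morphism of algebraic spaces and lifting along square zero
extensions of local rings (helper2)
-/

set_option autoImplicit false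
set_option backward.isDefEq.respectTransparency.types false
set_option synthInstance.maxHeartbeats 400000
set_option maxHeartbeats 4000000
set_option linter.style.haveILetI false
set_option linter.unusedSectionVars false
set_option linter.unusedVariables false
set_option linter.unusedSimpArgs false
set_option linter.unnecessarySimpa false

universe u

open CategoryTheory CategoryTheory.Limits AlgebraicGeometry Opposite AlgSp
open Groth.Agent.Helper2.AlgSpBasic Groth.Agent.Helper2.AlgSpFormal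
open Groth.Agent.Helper2.FormalLib

namespace Groth.Agent.Helper2.FDesc

variable {S : Scheme.{u}}

/-- Lifting along square zero surjections of local rings, for maps sending the closed point
to `x`. -/
def LocalLiftAt {X Y : Sp S} (f : X ⟶ Y) (x : Points X) : Prop :=
  ∀ (B' B : Type u) [CommRing B'] [CommRing B] [IsLocalRing B'] [IsLocalRing B] (π : B' →+* B),
    Function.Surjective π → RingHom.ker π ^ 2 = ⊥ →
    ∀ (s : Spec (CommRingCat.of B') ⟶ S)
      (α : (AlgSp.yon S).obj (Over.mk (Spec.map (CommRingCat.ofHom π) ≫ s)) ⟶ X)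
      (β : (AlgSp.yon S).obj (Over.mk s) ⟶ Y),
      AlgSp.Points.ofPt α (IsLocalRing.closedPoint B) = x →
      α ≫ f = (AlgSp.yon S).map
        (Over.homMk (Spec.map (CommRingCat.ofHom π)) :
          Over.mk (Spec.map (CommRingCat.ofHom π) ≫ s) ⟶ Over.mk s) ≫ β →
      ∃ γ : (AlgSp.yon S).obj (Over.mk s) ⟶ X,
        (AlgSp.yon S).map (Over.homMk (Spec.map (CommRingCat.ofHom π)) :
          Over.mk (Spec.map (CommRingCat.ofHom π) ≫ s) ⟶ Over.mk s) ≫ γ = α ∧ γ ≫ f = β

/-- Lifting along small extensions of Artinian local rings, for maps sending the closed point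
to `x`. -/
def ArtLiftAt {X Y : Sp S} (f : X ⟶ Y) (x : Points X) : Prop :=
  ∀ (B' B : Type u) [CommRing B'] [CommRing B] [IsLocalRing B'] [IsLocalRing B]
    [IsArtinianRing B'] [IsArtinianRing B] (π : B' →+* B), Function.Surjective π →
    (∃ t : B', RingHom.ker π = Ideal.span {t} ∧ ∀ a ∈ IsLocalRing.maximalIdeal B', a * t = 0) →
    ∀ (s : Spec (CommRingCat.of B') ⟶ S)
      (α : (AlgSp.yon S).obj (Over.mk (Spec.map (CommRingCat.ofHom π) ≫ s)) ⟶ X)
      (β : (AlgSp.yon S).obj (Over.mk s) ⟶ Y),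
      AlgSp.Points.ofPt α (IsLocalRing.closedPoint B) = x →
      α ≫ f = (AlgSp.yon S).map
        (Over.homMk (Spec.map (CommRingCat.ofHom π)) :
          Over.mk (Spec.map (CommRingCat.ofHom π) ≫ s) ⟶ Over.mk s) ≫ β →
      ∃ γ : (AlgSp.yon S).obj (Over.mk s) ⟶ X,
        (AlgSp.yon S).map (Over.homMk (Spec.map (CommRingCat.ofHom π)) :
          Over.mk (Spec.map (CommRingCat.ofHom π) ≫ s) ⟶ Over.mk s) ≫ γ = α ∧ γ ≫ f = β

theorem artLiftAt_of_localLiftAt {X Y : Sp S} (f : X ⟶ Y) (x : Points X)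
    (H : LocalLiftAt f x) : ArtLiftAt f x := by
  rintro B' B _ _ _ _ _ _ π hπ ⟨t, hk, ht⟩ s α β hx comm
  exact H B' B π hπ (ker_sq_of_small π t hk ht) s α β hx comm

/-- Every point of `h_T` comes from a point of `T`. -/
theorem points_map_yon_eq_ofPt {F : Sp S} {T : Over S} (g : (yon S).obj T ⟶ F)
    (p : Points ((yon S).obj T)) : ∃ t : ↥T.left, Points.map g p = Points.ofPt g t := by
  obtain ⟨t, rfl⟩ := (Points.schemeHomeo T).surjective p
  exact ⟨t, (Points.ofPt_eq_map_ofScheme g t).symm⟩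

/-- An open subset of the spectrum of a local ring containing the closed point is everything. -/
theorem mem_of_isOpen_of_closedPoint_mem {B : Type u} [CommRing B] [IsLocalRing B]
    (s : Set ↥(Spec (CommRingCat.of B))) (hs : IsOpen s)
    (hc : (IsLocalRing.closedPoint B : ↥(Spec (CommRingCat.of B))) ∈ s)
    (q : ↥(Spec (CommRingCat.of B))) : q ∈ s := by
  have h1 : (q : PrimeSpectrum B) ⤳ IsLocalRing.closedPoint B :=
    IsLocalRing.specializes_closedPoint q
  exact h1.mem_open hs hc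

/-- Smoothness at `x` implies the pointed lifting property along square zero extensions of
local rings. -/
theorem localLiftAt_of_hasAtMor {X Y : Sp S} (hX : IsAlgSpace X) (hY : IsAlgSpace Y) (f : X ⟶ Y)
    (x : Points X)
    (H : HasAtMor (fun U _ h u => ∃ W : U.Opens, u ∈ W ∧ Smooth (W.ι ≫ h)) f x) :
    LocalLiftAt f x := by
  obtain ⟨U, V, a, b, h, u, hae, hbe, comm, hux, W, huW, hsm⟩ := H
  obtain ⟨O, hOdef⟩ : ∃ O : Set (Points X), O = Points.ofPt a '' (W : Set ↥U.left) := ⟨_, rfl⟩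
  have hO : IsOpen O := by
    rw [hOdef]
    exact isOpenMap_ofPt a hae _ W.2
  have hxO : x ∈ O := by
    rw [hOdef]
    exact ⟨u, huW, hux⟩
  have hXo : IsAlgSpace (openSub X O) := isAlgSpace_openSub hX hO
  obtain ⟨aW, haW⟩ : ∃ aW : (yon S).obj (opensOver W) ⟶ X,
      aW = (yon S).map (opensOverι W) ≫ a := ⟨_, rfl⟩
  have haWe : RepWith @Etale aW := by
    rw [haW]
    refine repWith_comp @Etale ((repWith_yon_map_iff @Etale _).2 ?_) hae
    change Etale W.ι
    infer_instance
  have hpts : ∀ w : ↥(opensOver W).left, Points.ofPt aW w ∈ O := by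
    intro w
    rw [haW, ofPt_yon_map_comp, hOdef]
    refine ⟨(opensOverι W).left w, ?_, rfl⟩
    have h1 : (opensOverι W).left w ∈ Set.range W.ι := ⟨w, rfl⟩
    rw [Scheme.Opens.range_ι] at h1
    exact h1
  have hmapmem : ∀ p : Points ((yon S).obj (opensOver W)), Points.map aW p ∈ O := by
    intro p
    obtain ⟨w, hw⟩ := points_map_yon_eq_ofPt aW p
    rw [hw]
    exact hpts w
  obtain ⟨j, hj⟩ : ∃ j : openSub X O ⟶ X, j = openSubι X O := ⟨_, rfl⟩
  haveI : Mono j := by
    rw [hj]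
    infer_instance
  obtain ⟨a0, ha0⟩ : ∃ a0 : (yon S).obj (opensOver W) ⟶ openSub X O, a0 ≫ j = aW := by
    rw [hj]
    exact ⟨openSubLift O aW hmapmem, openSubLift_ι O aW hmapmem⟩
  have ha0e : RepWith @Etale a0 := repWith_lift_of_mono @Etale j aW a0 ha0 haWe
  have ha0s : RepWith @Surjective a0 := by
    refine repWith_surjective_of_surjective_ofPt a0 (hXo.representable_from_yon a0) ?_
    intro p
    have hp : Points.map j p ∈ O := by
      rw [hj]
      exact points_map_openSubι_mem X O p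
    have hp' : Points.map j p ∈ Points.ofPt a '' (W : Set ↥U.left) := by
      rw [← hOdef]
      exact hp
    obtain ⟨w0, hw0W, hw0⟩ := hp'
    obtain ⟨w, hw⟩ : ∃ w : ↥(opensOver W).left, (opensOverι W).left w = w0 := by
      have h1 : w0 ∈ Set.range W.ι := by
        rw [Scheme.Opens.range_ι]
        exact hw0W
      obtain ⟨w, hw⟩ := h1
      exact ⟨w, hw⟩
    refine ⟨w, ?_⟩
    apply injective_points_map_of_mono j
    rw [Points.map_ofPt, ha0, haW, ofPt_yon_map_comp, hw, hw0]
  obtain ⟨hW, hhW⟩ : ∃ hW : opensOver W ⟶ V, hW = opensOverι W ≫ h := ⟨_, rfl⟩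
  have comm0 : a0 ≫ (j ≫ f) = (yon S).map hW ≫ b := by
    rw [← Category.assoc, ha0, haW, Category.assoc, comm, hhW, Functor.map_comp, Category.assoc]
  have hsm0 : Smooth hW.left := by
    rw [hhW, Over.comp_left]
    exact hsm
  have hloc : LocP @Smooth (j ≫ f) :=
    locP_of_one_chart @Smooth hXo.diag hY.diag (j ≫ f) a0 b hW ha0e ha0s hbe comm0 hsm0
  have hfs : IsFormallySmoothMor (j ≫ f) :=
    isFormallySmoothMor_of_locP_smooth hXo hY (j ≫ f) hloc
  intro B' B _ _ _ _ π hπ hsq s α β hαx hcomm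
  have hop : IsOpen (Points.ofPt α ⁻¹' O) := hO.preimage (Points.continuous_ofPt α)
  have hαmem : ∀ p : Points ((yon S).obj (Over.mk (Spec.map (CommRingCat.ofHom π) ≫ s))),
      Points.map α p ∈ O := by
    intro p
    obtain ⟨q, hq⟩ := points_map_yon_eq_ofPt α p
    rw [hq]
    have hq' : q ∈ Points.ofPt α ⁻¹' O :=
      mem_of_isOpen_of_closedPoint_mem (Points.ofPt α ⁻¹' O) hop (by
        show Points.ofPt α (IsLocalRing.closedPoint B) ∈ O
        rw [hαx]
        exact hxO) q
    exact hq'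
  obtain ⟨α0, hα0⟩ : ∃ α0 : (yon S).obj (Over.mk (Spec.map (CommRingCat.ofHom π) ≫ s)) ⟶
      openSub X O, α0 ≫ j = α := by
    rw [hj]
    exact ⟨openSubLift O α hαmem, openSubLift_ι O α hαmem⟩
  have comm' : α0 ≫ (j ≫ f) = (yon S).map (Over.homMk (Spec.map (CommRingCat.ofHom π)) rfl :
      Over.mk (Spec.map (CommRingCat.ofHom π) ≫ s) ⟶ Over.mk s) ≫ β := by
    rw [← Category.assoc, hα0]
    exact hcomm
  haveI : IsAffine (Over.mk s).left := inferInstanceAs (IsAffine (Spec (CommRingCat.of B')))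
  obtain ⟨γ0, hγ1, hγ2⟩ := el_of_isFormallySmoothMor_affine (j ≫ f) hfs _
    (isFOT_spec_map π hπ hsq s) α0 β comm'
  refine ⟨γ0 ≫ j, ?_, ?_⟩
  · have e : ((yon S).map (Over.homMk (Spec.map (CommRingCat.ofHom π)) rfl :
        Over.mk (Spec.map (CommRingCat.ofHom π) ≫ s) ⟶ Over.mk s) ≫ γ0) ≫ j = α := by
      rw [hγ1, hα0]
    rw [Category.assoc] at e
    exact e
  · rw [Category.assoc]
    exact hγ2

/-- The pointed lifting property along small extensions of Artinian local rings implies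
smoothness at the point. -/
theorem hasAtMor_of_artLiftAt {X Y : Sp S} (hX : IsAlgSpace X) (hY : IsAlgSpace Y) (f : X ⟶ Y)
    (hYn : IsLocNoethSp Y) (hft : LocP @LocallyOfFiniteType f) (x : Points X)
    (H : ArtLiftAt f x) :
    HasAtMor (fun U _ h u => ∃ W : U.Opens, u ∈ W ∧ Smooth (W.ι ≫ h)) f x := by
  obtain ⟨V, b, hbe, hbs, hVn⟩ := hYn
  obtain ⟨U, a, h, hae, has, comm⟩ :=
    Groth.Agent.Helper2.AlgSpBasic.exists_chart_lift hX f b hbe hbs
  obtain ⟨u, hu⟩ := surjective_ofPt a has x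
  haveI : IsLocallyNoetherian V.left := hVn
  haveI : LocallyOfFiniteType h.left := hft a b h hae hbe comm
  have HL : Groth.Agent.Helper2.SmallExtAt.LiftPropAt h.left u := by
    intro B B' _ _ _ _ _ _ φ ε hφ hker hε α β hpt hcomm
    obtain ⟨s, hs⟩ : ∃ s : Spec (CommRingCat.of B') ⟶ S, s = β ≫ V.hom := ⟨_, rfl⟩
    have hα : α ≫ U.hom = Spec.map (CommRingCat.ofHom φ) ≫ s := by
      rw [hs, ← Over.w h, ← Category.assoc, ← hcomm, Category.assoc]
    obtain ⟨αO, hαO⟩ : ∃ αO : Over.mk (Spec.map (CommRingCat.ofHom φ) ≫ s) ⟶ U, αO.left = α :=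
      ⟨Over.homMk α hα, rfl⟩
    obtain ⟨βO, hβO⟩ : ∃ βO : Over.mk s ⟶ V, βO.left = β := ⟨Over.homMk β hs.symm, rfl⟩
    obtain ⟨tO, htO⟩ : ∃ tO : Over.mk (Spec.map (CommRingCat.ofHom φ) ≫ s) ⟶ Over.mk s,
        tO.left = Spec.map (CommRingCat.ofHom φ) ∧
        tO = Over.homMk (Spec.map (CommRingCat.ofHom φ)) rfl := ⟨_, rfl, rfl⟩
    have hsq := ker_sq_of_small φ ε hker hε
    have htF : IsFOT tO := by
      rw [htO.2]
      exact isFOT_spec_map φ hφ hsq s
    have hcommO : αO ≫ h = tO ≫ βO := by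
      apply Over.OverMorphism.ext
      rw [Over.comp_left, Over.comp_left, hαO, hβO, htO.1]
      exact hcomm.symm
    have hcommS : ((yon S).map αO ≫ a) ≫ f = (yon S).map tO ≫ ((yon S).map βO ≫ b) := by
      rw [Category.assoc, comm, ← Category.assoc, ← Functor.map_comp, hcommO, Functor.map_comp,
        Category.assoc]
    have hptS : Points.ofPt ((yon S).map αO ≫ a) (IsLocalRing.closedPoint B) = x := by
      refine (ofPt_yon_map_comp αO a _).trans ?_
      have e1 : αO.left (IsLocalRing.closedPoint B) = u := by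
        rw [hαO]
        exact hpt
      exact (congrArg (Points.ofPt a) e1).trans hu
    obtain ⟨γ', hγ1, hγ2⟩ : ∃ γ' : (yon S).obj (Over.mk s) ⟶ X,
        (yon S).map tO ≫ γ' = (yon S).map αO ≫ a ∧ γ' ≫ f = (yon S).map βO ≫ b := by
      rw [htO.2] at hcommS ⊢
      exact H B' B φ hφ ⟨ε, hker, hε⟩ s ((yon S).map αO ≫ a) ((yon S).map βO ≫ b) hptS hcommS
    obtain ⟨m, ⟨hm1, hm2⟩, -⟩ := ul_of_repWith_etale a hae tO htF ((yon S).map αO) γ' hγ1.symm
    obtain ⟨μ, rfl⟩ := (yon S).map_surjective m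
    have e1 : tO ≫ μ = αO := (yon S).map_injective (by rw [Functor.map_comp, hm1])
    have e2 : μ ≫ h = βO := by
      apply (yon S).map_injective
      refine uu_of_repWith_etale b hbe tO htF _ _ ?_ ?_
      · rw [← Functor.map_comp, ← Functor.map_comp, ← Category.assoc, e1, hcommO]
      · rw [Functor.map_comp, Category.assoc, ← comm, ← Category.assoc, hm2, hγ2]
    refine ⟨μ.left, ?_, ?_⟩
    · have h1 := congrArg (fun m => m.left) e1
      rw [← htO.1, ← hαO]
      exact h1
    · have h2 := congrArg (fun m => m.left) e2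
      rw [← hβO]
      exact h2
  obtain ⟨W, huW, hsm⟩ :=
    Groth.Agent.Helper2.SmallExtAt.exists_smooth_nhd_of_liftPropAt h.left u HL
  exact ⟨U, V, a, b, h, u, hae, hbe, comm, hu, W, huW, hsm⟩

end Groth.Agent.Helper2.FDesc
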